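import Cfsg.Agent.H666.SporBase
import Cfsg.Agent.BpSpor.MBigEleven
import Cfsg.Agent.MThirteen.FiveRow

/-!
# The Monster: Sylow 11- and 13-subgroups are not TI (helper666)

An element of order 11 (13) commuting with a four-group; the involution centralizers have Sylow 11-, 13-subgroups of
order `p`.
-/

set_option autoImplicit false
set_option linter.constructorNameAsVariable false
set_option maxRecDepth 100000

namespace Cfsg.Agent.H666.SporM

open Subgroup Cfsg Cfsg.Lie Cfsg.Agent.H666.TI Cfsg.Agent.H666.SporBase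
open Cfsg.Agent.BpSpor.MBigModel

section Eleven

open Cfsg.Agent.MonsterX Cfsg.Agent.MonsterX.InstData Cfsg.Agent.MonsterX.MainPack Cfsg.Agent.MonsterU
open Cfsg.Agent.MonsterP Cfsg.Agent.MonsterN Cfsg.Agent.LThreeMB
open Cfsg.Agent.MonsterX.MainBasic Cfsg.Agent.MonsterX.MainSimple Cfsg.Agent.MonsterX.Model
open Cfsg.Agent.MonsterU.Lam2 Cfsg.Agent.MonsterU.TwoCls
open Cfsg.Spor (Co1)

theorem not_ti_eleven : ¬ IsTI 11 MG := by
  have hfin := finite
  have h11 : Fact (Nat.Prime 11) := ⟨by norm_num⟩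
  obtain ⟨x', hx', hpx'⟩ := MFive.KPair.exists_order chart h11.out (by decide) BpSpor.MBigCo.orderOf_s11
  obtain ⟨v₀, h2, hfix⟩ := BpSpor.MBigCo.exists_two BpSpor.MBigCo.orderOf_s11
  have hx11 : x' ^ 11 = 1 := by rw [← hx', pow_orderOf_eq_one]
  obtain ⟨w, hw, hwx, hwv⟩ := MFive.exists_fix chart (by decide) hx11 (v := v₀) (by rw [hpx']; exact hfix)
  have hwz : w * zz = zz * w := chart.large.comm_z w hw
  obtain ⟨p, rfl⟩ := hw
  rw [KChart.eta_ι] at hwv
  have hTA : LThreeB.Row.TA (KDone.K.ι p) := ta_iota (by rw [hwv]; exact h2)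
  refine not_ti_of_four (by norm_num) ?_ (x := (x' : MG)) (u := zz) (v := KDone.K.ι p)
    (by rw [Subgroup.orderOf_coe, hx']) orderOf_zz (Cfsg.Agent.MThirteen.Row.ta_order hTA) ?_ hwz.symm
    (mem_centralizer_singleton_iff.1 x'.2).symm hwx (fun a ha => not_sq (Or.inl rfl) ha)
  · rw [card_M]; norm_num
  · intro h
    refine Cfsg.Agent.MThirteen.Row.ta_ne hTA 1 ?_
    rw [← h]
    group

end Eleven

section Thirteen

open Cfsg.Agent.Bimonster Cfsg.Agent.Bimonster.Tits Cfsg.Agent.BabyU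
open Cfsg.Agent.MonsterX.KSide Cfsg.Agent.MonsterX.KLift Cfsg.Agent.MonsterX.KModel
open Cfsg.Agent.MonsterX.Model Cfsg.Agent.MonsterX.MainPack Cfsg.Agent.MonsterX.MainSimple
open Cfsg.Agent.MonsterX.MainBasic Cfsg.Agent.MonsterU.Assembly Cfsg.Agent.MonsterN.Lit Cfsg.Agent.MonsterN
open Cfsg.Agent.MonsterN.LitInst Cfsg.Agent.MonsterU.Lam2 Cfsg.Agent.MonsterU.TwoCls
open Cfsg.Agent.BabyComp Cfsg.Agent.R01.Lifts

/-- an element of odd prime order modulo the kernel -/
theorem dvd_lift {p : ℕ} (hp : p.Prime) (hp2 : p ≠ 2) {X B : Type*} [Group X] [Finite X] [Group B] [Finite B]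
    {q : X →* B} {z : X} (hq : Ext q z) {y : X}
    (h : p ∣ Nat.card ↥(centralizer ({q y} : Set B))) : p ∣ Nat.card ↥(centralizer ({y} : Set X)) := by
  have : Fact p.Prime := ⟨hp⟩
  obtain ⟨g, hg⟩ := exists_prime_orderOf_dvd_card' p h
  obtain ⟨k, hk⟩ := hq.surj (g : B)
  have hgc : (g : B) * q y = q y * g := mem_centralizer_singleton_iff.1 g.2
  have hgo : orderOf (g : B) = p := by rw [Subgroup.orderOf_coe, hg]
  have h1 : q (k * y * k⁻¹ * y⁻¹) = 1 := by
    rw [map_mul, map_mul, map_mul, map_inv, map_inv, hk, hgc]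
    group
  have h2 : k * k * y = y * (k * k) := by
    have hkz := hq.comm k
    rcases (hq.ker _).1 h1 with h3 | h3
    · have h4 : k * y = y * k := by
        calc k * y = (k * y * k⁻¹ * y⁻¹) * (y * k) := by group
          _ = y * k := by rw [h3, one_mul]
      rw [mul_assoc, h4, ← mul_assoc, h4, mul_assoc]
    · have h4 : k * y = z * (y * k) := by
        calc k * y = (k * y * k⁻¹ * y⁻¹) * (y * k) := by group
          _ = z * (y * k) := by rw [h3]
      calc k * k * y = k * (k * y) := by group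
        _ = k * z * (y * k) := by rw [h4]; group
        _ = z * (k * y) * k := by rw [hkz]; group
        _ = (z * z) * y * k * k := by rw [h4]; group
        _ = y * (k * k) := by rw [hq.zz]; group
  have hm : k * k ∈ centralizer ({y} : Set X) := mem_centralizer_singleton_iff.2 h2
  have h3 : orderOf (q (k * k)) = p := by
    have h4 : q (k * k) = (g : B) ^ 2 := by rw [map_mul, hk, pow_two]
    rw [h4, orderOf_pow, hgo, (Nat.coprime_primes hp Nat.prime_two).2 hp2, Nat.div_one]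
  have h4 : p ∣ orderOf (k * k) := by
    rw [← h3]
    exact orderOf_map_dvd q _
  rw [← Subgroup.orderOf_mk _ hm] at h4
  exact h4.trans (orderOf_dvd_natCard _)

variable {V P W : Type} [AddCommGroup V] [Module ℚ V] [Group P] [AddCommGroup W] [Module ℚ W]
  {D : MData V} {M : KS ↥D.G V P W} {x₀ : P} {θ : leechLattice → P} {K₀ : Type} [Group K₀]

theorem exists_four (A : All D K₀) (H : Link D M x₀) (L : Lift M θ) {τ : D.G} {y' : P}
    (T : Cfsg.Agent.MonsterU.InvTwo.TauHyp M θ ⊤ τ y') {y : ℕ → D.G} (hP : PRel y) (hne : y 0 ≠ y 1)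
    (hy : ∃ g : D.G, g * tG A.hG A.hR * g⁻¹ = y 10) {p : ℕ} (hp : p.Prime) (hp2 : p ≠ 2)
    (hpd : p ∣ 306129918735099415756800) : ∃ x u v : D.G,
      orderOf x = p ∧ orderOf u = 2 ∧ orderOf v = 2 ∧ u ≠ v ∧ u * v = v * u ∧ u * x = x * u ∧ v * x = x * v := by
  have hpF : Fact p.Prime := ⟨hp⟩
  have hfin : Finite D.G := G_finite A.hO
  have hfB : Finite Spor.BabyMonster := Nat.finite_of_card_ne_zero (by rw [BM.KHAll.card_B]; norm_num)
  obtain ⟨f₁, f₂, f₃, f₄, Fc, hcz, hcd, -⟩ := FusInst.exists_facts A H L T H.x₀_mem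
  obtain ⟨⟨h1, h2, h3⟩, h43⟩ := ModelB.fieldsKS A H L hP hne hy Cfsg.Agent.S1704.result H.x₀_mem
  obtain ⟨q, hq⟩ := NodesLit.exists_ext h1 h3 Fc.cen Fc.t_ne
  obtain ⟨yB, hyB, h10, hπ, -⟩ := LiftB.exists_pre_of_perfect fi_facts hq h2
  have hy4 : q (yB 4) = PresentedGroup.of Spor.BabyMonster.Gen.t1 := hπ .t1
  have hcard : Nat.card (centralizer ({PresentedGroup.of Spor.BabyMonster.Gen.t1} : Set Spor.BabyMonster)) =
    306129918735099415756800 := BM.KHAll.card_cent .t1
  have hne1 : q (yB 4) ≠ 1 := by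
    intro e
    have h3 : centralizer ({1} : Set Spor.BabyMonster) = ⊤ := by
      rw [eq_top_iff]
      intro x _
      rw [mem_centralizer_singleton_iff, mul_one, one_mul]
    rw [← hy4, e, h3, card_top, BM.KHAll.card_B] at hcard
    norm_num at hcard
  have h5 : p ∣ Nat.card ↥(centralizer ({yB 4} : Set (BB M x₀))) := by
    refine dvd_lift hp hp2 hq ?_
    rw [hy4, hcard]
    exact hpd
  obtain ⟨x, hx⟩ := exists_prime_orderOf_dvd_card' p h5
  have hy2 : yB 4 * yB 4 = 1 := hyB.sq 4 (by norm_num) (by norm_num)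
  have h2F : Fact (Nat.Prime 2) := ⟨Nat.prime_two⟩
  have ht2 : (tb M x₀) * (tb M x₀) = 1 := hq.zz
  have hv1 : yB 4 ≠ 1 := fun e => hne1 (by rw [e, map_one])
  have hvt : yB 4 ≠ tb M x₀ := fun e => hne1 (by rw [e, hq.mapz])
  have ht1 : tb M x₀ ≠ 1 := Fc.t_ne
  refine ⟨((x : BB M x₀) : D.G), ((tb M x₀ : BB M x₀) : D.G), ((yB 4 : BB M x₀) : D.G), ?_, ?_, ?_, ?_, ?_, ?_, ?_⟩
  · rw [Subgroup.orderOf_coe, Subgroup.orderOf_coe, hx]
  · rw [Subgroup.orderOf_coe]
    exact orderOf_eq_prime (by rw [pow_two]; exact ht2) ht1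
  · rw [Subgroup.orderOf_coe]
    exact orderOf_eq_prime (by rw [pow_two]; exact hy2) hv1
  · exact fun e => hvt (Subtype.ext e.symm)
  · exact (congrArg Subtype.val (hq.comm (yB 4))).symm
  · exact (congrArg Subtype.val (hq.comm (x : BB M x₀))).symm
  · exact (congrArg Subtype.val (mem_centralizer_singleton_iff.1 x.2)).symm

end Thirteen

section Final

open Cfsg.Agent.MonsterX Cfsg.Agent.MonsterX.InstData Cfsg.Agent.MonsterX.MainPack Cfsg.Agent.MonsterU
open Cfsg.Agent.MonsterP Cfsg.Agent.MonsterN Cfsg.Agent.LThreeMB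
open Cfsg.Agent.MonsterX.MainBasic Cfsg.Agent.MonsterX.MainSimple Cfsg.Agent.MonsterX.Model
open Cfsg.Agent.MonsterU.Lam2 Cfsg.Agent.MonsterU.TwoCls

theorem not_ti_thirteen : ¬ IsTI 13 MG := by
  have hfin := finite
  have h13 : Fact (Nat.Prime 13) := ⟨by norm_num⟩
  obtain ⟨x, u, v, hx, hu, hv, huv, hc, hux, hvx⟩ := exists_four LitFin.all KDone.lnk KDone.lft
    (TauInst.tauHyp (Final.cent InstanceFinal.mOrbit Instance.mTrans)) (NodesGrp.prel LitFin.H)
    (NodesNe.ne LitFin.H) LitFin.conj_ten h13.out (by norm_num) (by norm_num)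
  refine not_ti_of_four (by norm_num) ?_ hx hu hv huv hc hux hvx (fun a ha => not_sq (Or.inr rfl) ha)
  rw [card_M]; norm_num

/-- **The Monster, `p = 11`.** -/
theorem m_11 {G : Type*} [Group G] (h : Spor.IsoM G) : ¬ IsTI 11 G := by
  obtain ⟨e⟩ := h
  obtain ⟨e'⟩ := MonsterP.Equiv.equiv
  exact fun hTI => not_ti_eleven (hTI.congr (e.trans e'))

/-- **The Monster, `p = 13`.** -/
theorem m_13 {G : Type*} [Group G] (h : Spor.IsoM G) : ¬ IsTI 13 G := by
  obtain ⟨e⟩ := h
  obtain ⟨e'⟩ := MonsterP.Equiv.equiv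
  exact fun hTI => not_ti_thirteen (hTI.congr (e.trans e'))

end Final

end Cfsg.Agent.H666.SporM
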