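import Cfsg.Agent.H666.FixedVectors

/-!
# TI Sylow subgroups and small representations

* `free_of_ti` : if `P` is a TI Sylow `p`-subgroup and `N_G(P) ≤ H`, a nonidentity element of `P`
  fixes only the point `H` of `G ⧸ H`.
* `comm_of_comm` : if `(dim V)² ≤ #P`, each endomorphism of `V` commuting with `H` commutes with `G`.
-/

set_option autoImplicit false
set_option linter.style.haveILetI false
set_option linter.unusedSectionVars false

open scoped Pointwise

namespace Cfsg.Agent.H666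

open Module Submodule

variable {G : Type*} [Group G]

theorem free_of_ti [Finite G] (p : ℕ) [Fact p.Prime] (P : Sylow p G)
    (hTI : ∀ g : G, g ∉ Subgroup.normalizer ((P : Subgroup G) : Set G) →
      (P : Subgroup G) ⊓ (MulAut.conj g • (P : Subgroup G)) = ⊥)
    (H : Subgroup G) (hH : Subgroup.normalizer ((P : Subgroup G) : Set G) ≤ H) :
    ∀ x ∈ (P : Subgroup G), x ≠ 1 → ∀ g : G, g⁻¹ * x * g ∈ H → g ∈ H := by
  intro x hx hx1 g hg
  have hPH : (P : Subgroup G) ≤ H := le_trans Subgroup.le_normalizer hH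
  let y : H := ⟨g⁻¹ * x * g, hg⟩
  have hy : IsPGroup p (Subgroup.zpowers y) := by
    obtain ⟨n, hn⟩ := P.isPGroup'.exists_card_eq
    obtain ⟨k, hk⟩ := P.isPGroup' ⟨x, hx⟩
    have hk' : x ^ p ^ k = 1 := by simpa using congrArg Subtype.val hk
    have hyk : y ^ p ^ k = 1 := by
      apply Subtype.ext
      show (g⁻¹ * x * g) ^ p ^ k = 1
      have : g⁻¹ * x * g = g⁻¹ * x * g⁻¹⁻¹ := by simp
      rw [this, conj_pow, hk']; simp
    intro z
    obtain ⟨z, hz⟩ := z
    obtain ⟨m, rfl⟩ := Subgroup.mem_zpowers_iff.mp hz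
    refine ⟨k, Subtype.ext ?_⟩
    show (y ^ m) ^ p ^ k = 1
    rw [← zpow_natCast, ← zpow_mul, mul_comm, zpow_mul, zpow_natCast, hyk, one_zpow]
  obtain ⟨Q, hQ⟩ := hy.exists_le_sylow
  let PH : Sylow p H := P.subtype hPH
  obtain ⟨h, hh⟩ := MulAction.exists_smul_eq H Q PH
  have hyQ : y ∈ Q := hQ (Subgroup.mem_zpowers y)
  have h1 : h * y * h⁻¹ ∈ PH := by
    rw [← hh]
    show h * y * h⁻¹ ∈ ((h • Q : Sylow p H) : Subgroup H)
    rw [Sylow.coe_subgroup_smul, Subgroup.mem_pointwise_smul_iff_inv_smul_mem]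
    have : (MulAut.conj h)⁻¹ • (h * y * h⁻¹) = y := by
      rw [← map_inv, MulAut.smul_def, MulAut.conj_apply]; group
    rw [this]; exact hyQ
  have h2 : (h : G) * (g⁻¹ * x * g) * (h : G)⁻¹ ∈ (P : Subgroup G) := by
    have h1' : h * y * h⁻¹ ∈ (PH : Subgroup H) := h1
    rw [Sylow.coe_subtype, Subgroup.mem_subgroupOf] at h1'
    exact h1'
  set z : G := (h : G) * g⁻¹ with hz
  have h3 : z * x * z⁻¹ ∈ (P : Subgroup G) := by
    have : z * x * z⁻¹ = (h : G) * (g⁻¹ * x * g) * (h : G)⁻¹ := by rw [hz]; group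
    rw [this]; exact h2
  have hzN : z ∈ Subgroup.normalizer ((P : Subgroup G) : Set G) := by
    by_contra hzN
    have h4 := hTI z hzN
    have h5 : z * x * z⁻¹ ∈ (P : Subgroup G) ⊓ (MulAut.conj z • (P : Subgroup G)) := by
      refine Subgroup.mem_inf.mpr ⟨h3, ?_⟩
      rw [Subgroup.mem_pointwise_smul_iff_inv_smul_mem]
      have : (MulAut.conj z)⁻¹ • (z * x * z⁻¹) = x := by
        rw [← map_inv, MulAut.smul_def, MulAut.conj_apply]; group
      rw [this]; exact hx
    rw [h4, Subgroup.mem_bot] at h5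
    apply hx1
    have : x = z⁻¹ * (z * x * z⁻¹) * z := by group
    rw [this, h5]; group
  have hzH : z ∈ H := hH hzN
  have : g = z⁻¹ * (h : G) := by rw [hz]; group
  rw [this]
  exact H.mul_mem (H.inv_mem hzH) h.2

/-- Endomorphisms commuting with `H` commute with `G` when `(dim V)² ≤ #P`. -/
theorem comm_of_comm [Finite G] (p : ℕ) [Fact p.Prime] (P H : Subgroup G) (hP : IsPGroup p P)
    (hPH : P ≤ H) (hfree : ∀ x ∈ P, x ≠ 1 → ∀ g : G, g⁻¹ * x * g ∈ H → g ∈ H)
    {V : Type*} [AddCommGroup V] [Module ℂ V] [FiniteDimensional ℂ V]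
    (ρ : Representation ℂ G V) (hdim : finrank ℂ V ^ 2 ≤ Nat.card P) (f : Module.End ℂ V)
    (hf : ∀ h ∈ H, f ∘ₗ ρ h = ρ h ∘ₗ f) (g : G) : f ∘ₗ ρ g = ρ g ∘ₗ f := by
  classical
  rcases subsingleton_or_nontrivial V with hV | hV
  · ext v; exact Subsingleton.elim _ _
  let σ := Representation.linHom ρ ρ
  have hσ : ∀ (g : G) (f : V →ₗ[ℂ] V), σ g f = f ↔ f ∘ₗ ρ g = ρ g ∘ₗ f := by
    intro g f
    have hinv : ρ g ∘ₗ ρ g⁻¹ = LinearMap.id := by
      rw [← Module.End.mul_eq_comp, ← map_mul, mul_inv_cancel, map_one]; rfl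
    have hinv' : ρ g⁻¹ ∘ₗ ρ g = LinearMap.id := by
      rw [← Module.End.mul_eq_comp, ← map_mul, inv_mul_cancel, map_one]; rfl
    rw [Representation.linHom_apply]
    constructor
    · intro h
      conv_lhs => rw [← h]
      rw [LinearMap.comp_assoc, LinearMap.comp_assoc, hinv', LinearMap.comp_id]
    · intro h
      rw [← LinearMap.comp_assoc, ← h, LinearMap.comp_assoc, hinv, LinearMap.comp_id]
  have hdim' : finrank ℂ (V →ₗ[ℂ] V) < Nat.card P + finrank ℂ (Representation.invariants σ) := by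
    have h1 : finrank ℂ (V →ₗ[ℂ] V) = finrank ℂ V ^ 2 := by
      rw [Module.finrank_linearMap, sq]
    have h2 : 0 < finrank ℂ (Representation.invariants σ) := by
      rw [Module.finrank_pos_iff_exists_ne_zero]
      refine ⟨⟨LinearMap.id, ?_⟩, ?_⟩
      · intro g
        rw [hσ]; rfl
      · intro h
        have h3 : (LinearMap.id : V →ₗ[ℂ] V) = 0 := congrArg Subtype.val h
        obtain ⟨v, hv⟩ := exists_ne (0 : V)
        exact hv (by simpa using congrArg (fun f : V →ₗ[ℂ] V => f v) h3)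
    omega
  have := fixed_of_fixed p P H hP hPH hfree σ hdim' f (fun h hh => (hσ h f).mpr (hf h hh)) g
  exact (hσ g f).mp this

end Cfsg.Agent.H666
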