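import Mathlib

/-!
# Finite groups with TI Sylow `p`-subgroups: element-wise tools (helper666)

* `IsTI p G` : any two `p`-subgroups with nontrivial intersection generate a `p`-group (equivalently: distinct Sylow
  `p`-subgroups intersect trivially);
* `IsTI.mem_of_comm` : a `p`-element commuting with `1 ≠ x ∈ P`, `P` Sylow, lies in `P`;
* `IsTI.mul_pElt` (criterion W) : `a ≠ 1`, `a`, `x`, `z` `p`-elements, `x`, `z ∈ C(a)` : `x z` is a `p`-element;
* `IsTI.comm_eq_one` (criterion E) : `a ≠ 1`, `a`, `b` commuting `p`-elements, `v ∈ C(a)`, `[b, v]` of order prime to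
  `p` : `[b, v] = 1`;
* `IsTI.of_injective`, `IsTI.congr`, `isTI_of_sylow`, `IsTI.sylow_eq`.
-/

set_option autoImplicit false

namespace Cfsg.Agent.H666.TI

open Subgroup

variable {p : ℕ} {G : Type*} [Group G]

/-- `x` is a `p`-element. -/
def PElt (p : ℕ) {G : Type*} [Group G] (x : G) : Prop := ∃ k : ℕ, x ^ p ^ k = 1

theorem PElt.map {H : Type*} [Group H] {x : G} (h : PElt p x) (f : G →* H) : PElt p (f x) := by
  obtain ⟨k, hk⟩ := h
  exact ⟨k, by rw [← map_pow, hk, map_one]⟩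

theorem PElt.of_map {H : Type*} [Group H] {x : G} (f : G →* H) (hf : Function.Injective f)
    (h : PElt p (f x)) : PElt p x := by
  obtain ⟨k, hk⟩ := h
  refine ⟨k, hf ?_⟩
  rw [map_pow, hk, map_one]

theorem PElt.inv {x : G} (h : PElt p x) : PElt p x⁻¹ := by
  obtain ⟨k, hk⟩ := h
  exact ⟨k, by rw [inv_pow, hk, inv_one]⟩

theorem PElt.conj {x : G} (h : PElt p x) (g : G) : PElt p (g * x * g⁻¹) := by
  obtain ⟨k, hk⟩ := h
  exact ⟨k, by rw [conj_pow, hk, mul_one, mul_inv_cancel]⟩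

theorem pElt_of_orderOf {x : G} (h : orderOf x = p) : PElt p x :=
  ⟨1, by rw [pow_one, ← h]; exact pow_orderOf_eq_one x⟩

theorem pElt_of_pow {x : G} (h : x ^ p = 1) : PElt p x := ⟨1, by rwa [pow_one]⟩

theorem pElt_of_mem {A : Subgroup G} (hA : IsPGroup p A) {x : G} (hx : x ∈ A) : PElt p x := by
  obtain ⟨k, hk⟩ := hA ⟨x, hx⟩
  exact ⟨k, congrArg Subtype.val hk⟩

theorem isPGroup_zpowers {x : G} (h : PElt p x) : IsPGroup p (zpowers x) := by
  obtain ⟨k, hk⟩ := h
  rintro ⟨y, i, rfl⟩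
  refine ⟨k, Subtype.ext ?_⟩
  change (x ^ i) ^ p ^ k = 1
  rw [← zpow_natCast, ← zpow_mul, mul_comm, zpow_mul, zpow_natCast, hk, one_zpow]

/-- an element which is a `p`-element and has order prime to `p` is trivial -/
theorem PElt.eq_one [hp : Fact p.Prime] {x : G} (h : PElt p x) {n : ℕ} (hn : x ^ n = 1)
    (hc : ¬ p ∣ n) : x = 1 := by
  obtain ⟨k, hk⟩ := h
  have h1 : orderOf x ∣ p ^ k := orderOf_dvd_of_pow_eq_one hk
  have h2 : orderOf x ∣ n := orderOf_dvd_of_pow_eq_one hn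
  have h3 : Nat.Coprime (p ^ k) n := Nat.Coprime.pow_left k ((Nat.Prime.coprime_iff_not_dvd hp.out).2 hc)
  have h4 : orderOf x ∣ 1 := by
    rw [← h3.gcd_eq_one]
    exact Nat.dvd_gcd h1 h2
  exact orderOf_eq_one_iff.mp (Nat.dvd_one.mp h4)

/-- Any two `p`-subgroups with nontrivial intersection generate a `p`-subgroup: the Sylow `p`-subgroups are TI. -/
def IsTI (p : ℕ) (G : Type*) [Group G] : Prop :=
  ∀ A B : Subgroup G, IsPGroup p A → IsPGroup p B → A ⊓ B ≠ ⊥ → IsPGroup p ↥(A ⊔ B)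

theorem IsTI.of_injective {H : Type*} [Group H] (h : IsTI p G) (f : H →* G)
    (hf : Function.Injective f) : IsTI p H := by
  intro A B hA hB hAB
  have h1 : A.map f ⊓ B.map f ≠ ⊥ := by
    rw [← Subgroup.map_inf_eq _ _ f hf]
    intro hc
    exact hAB ((Subgroup.map_eq_bot_iff_of_injective _ hf).mp hc)
  have h2 := h _ _ (hA.map f) (hB.map f) h1
  rw [← Subgroup.map_sup] at h2
  have h3 : IsPGroup p ↥(((A ⊔ B).map f).comap f) :=
    h2.comap_of_injective f hf
  rwa [Subgroup.comap_map_eq_self_of_injective hf] at h3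

theorem IsTI.subgroup (h : IsTI p G) (H : Subgroup G) : IsTI p H :=
  h.of_injective H.subtype H.subtype_injective

theorem IsTI.congr {H : Type*} [Group H] (h : IsTI p G) (e : G ≃* H) : IsTI p H :=
  h.of_injective e.symm.toMonoidHom e.symm.injective

/-- distinct Sylow subgroups intersect trivially -/
theorem isTI_of_sylow (h : ∀ P Q : Sylow p G, ∀ x : G, x ∈ P → x ∈ Q → x ≠ 1 → P = Q) :
    IsTI p G := by
  intro A B hA hB hAB
  obtain ⟨P, hP⟩ := hA.exists_le_sylow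
  obtain ⟨Q, hQ⟩ := hB.exists_le_sylow
  obtain ⟨x, hx, hx1⟩ : ∃ x : G, x ∈ A ⊓ B ∧ x ≠ 1 := by
    obtain ⟨x, hx⟩ := Subgroup.ne_bot_iff_exists_ne_one.1 hAB
    exact ⟨x.1, x.2, fun h => hx (Subtype.ext h)⟩
  have h1 := h P Q x (hP hx.1) (hQ hx.2) hx1
  subst h1
  exact P.isPGroup'.to_le (sup_le hP hQ)

theorem IsTI.sylow_eq (h : IsTI p G) {P Q : Sylow p G} {x : G} (hP : x ∈ P) (hQ : x ∈ Q)
    (hx : x ≠ 1) : P = Q := by
  have h1 : IsPGroup p ↥((P : Subgroup G) ⊔ Q) := by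
    refine h _ _ P.isPGroup' Q.isPGroup' ?_
    intro hc
    have h2 : x ∈ (P : Subgroup G) ⊓ Q := ⟨hP, hQ⟩
    rw [hc, mem_bot] at h2
    exact hx h2
  have h2 : (P : Subgroup G) ⊔ Q = P := P.is_maximal' h1 le_sup_left
  have h3 : (P : Subgroup G) ⊔ Q = Q := Q.is_maximal' h1 le_sup_right
  exact Sylow.ext (h2.symm.trans h3)

theorem exists_sylow_mem {x : G} (h : PElt p x) : ∃ P : Sylow p G, x ∈ P := by
  obtain ⟨P, hP⟩ := (isPGroup_zpowers h).exists_le_sylow
  exact ⟨P, hP (mem_zpowers x)⟩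

/-- two commuting `p`-elements generate a `p`-group -/
theorem isPGroup_sup_zpowers {x y : G} (hx : PElt p x) (hy : PElt p y) (hc : x * y = y * x) :
    IsPGroup p ↥(zpowers x ⊔ zpowers y) := by
  have h1 : zpowers y ≤ normalizer ((zpowers x : Subgroup G) : Set G) := by
    rw [zpowers_le]
    have h2 : y ∈ centralizer ((zpowers x : Subgroup G) : Set G) := by
      rw [mem_centralizer_iff]
      rintro _ ⟨i, rfl⟩
      exact ((show Commute x y from hc).zpow_left i).eq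
    exact centralizer_le_normalizer _ h2
  exact (isPGroup_zpowers hx).to_sup_of_normal_left' (isPGroup_zpowers hy) h1

theorem IsTI.mem_of_comm (h : IsTI p G) {P : Sylow p G} {x y : G} (hxP : x ∈ P) (hx : x ≠ 1)
    (hc : x * y = y * x) (hy : PElt p y) : y ∈ P := by
  obtain ⟨Q, hQ⟩ := (isPGroup_sup_zpowers (pElt_of_mem P.isPGroup' hxP) hy hc).exists_le_sylow
  have h1 : x ∈ Q := hQ (mem_sup_left (mem_zpowers x))
  rw [h.sylow_eq hxP h1 hx]
  exact hQ (mem_sup_right (mem_zpowers y))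

/-- **Criterion W**: `p`-elements centralising the `p`-element `a ≠ 1` generate a `p`-group. -/
theorem IsTI.mul_pElt (h : IsTI p G) {a x z : G} (ha : a ≠ 1) (hap : PElt p a)
    (hx : PElt p x) (hz : PElt p z) (hax : a * x = x * a) (haz : a * z = z * a) :
    PElt p (x * z) := by
  obtain ⟨P, haP⟩ := exists_sylow_mem hap
  exact pElt_of_mem P.isPGroup' (P.mul_mem (h.mem_of_comm haP ha hax hx) (h.mem_of_comm haP ha haz hz))

/-- **Criterion E**: `[b, v] = 1` for commuting `p`-elements `a ≠ 1`, `b` and `v ∈ C(a)` with `[b, v]` of order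
prime to `p`. -/
theorem IsTI.comm_eq_one [hp : Fact p.Prime] (h : IsTI p G) {a b v : G} (ha : a ≠ 1)
    (hap : PElt p a) (hb : PElt p b) (hab : a * b = b * a) (hav : a * v = v * a) {n : ℕ}
    (hn : (b * v * b⁻¹ * v⁻¹) ^ n = 1) (hc : ¬ p ∣ n) : b * v = v * b := by
  have h1 : PElt p (b * (v * b⁻¹ * v⁻¹)) := by
    refine h.mul_pElt ha hap hb (hb.inv.conj v) hab ?_
    have h2 : Commute a v := hav
    have h3 : Commute a b := hab
    exact ((h2.mul_right h3.inv_right).mul_right h2.inv_right).eq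
  have h2 : b * (v * b⁻¹ * v⁻¹) = b * v * b⁻¹ * v⁻¹ := by group
  rw [h2] at h1
  have h3 := h1.eq_one hn hc
  have h4 : b * v = (b * v * b⁻¹ * v⁻¹) * (v * b) := by group
  rw [h4, h3, one_mul]

end Cfsg.Agent.H666.TI
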