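import Mathlib
import Cfsg.Agent.H666.TIBasic
import Cfsg.Agent.H818.StrP.Gen

/-!
# TI Sylow subgroups: link with strongly `p`-embedded subgroups (helper666)

* `isTI_of_conj` : the hypothesis of S4749 gives `IsTI p G`;
* `stronglyP` : `N_G(P)` is strongly `p`-embedded;
* `not_noSP` : for simple `G`.
-/

set_option autoImplicit false

namespace Cfsg.Agent.H666.Link

open Subgroup Cfsg Cfsg.Agent.H666.TI Cfsg.Agent.H818.StrP
open scoped Pointwise

variable {G : Type*} [Group G] [Finite G] {p : ℕ} [hp : Fact p.Prime]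

theorem isTI_of_conj (P : Sylow p G) (hTI : ∀ g : G, g ∉ Subgroup.normalizer ((P : Subgroup G) : Set G) →
    (P : Subgroup G) ⊓ (MulAut.conj g • (P : Subgroup G)) = ⊥) : IsTI p G := by
  refine isTI_of_sylow fun Q R x hxQ hxR hx1 => ?_
  obtain ⟨g, rfl⟩ := MulAction.exists_smul_eq G P Q
  obtain ⟨h, rfl⟩ := MulAction.exists_smul_eq G P R
  by_contra hne
  have h1 : g⁻¹ * h ∉ normalizer ((P : Subgroup G) : Set G) := by
    intro h2
    apply hne
    have h3 := Sylow.smul_eq_iff_mem_normalizer.2 h2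
    have h4 : g • P = g • ((g⁻¹ * h) • P) := by rw [h3]
    rw [h4, smul_smul, mul_inv_cancel_left]
  have h2 := hTI _ h1
  have hx2 : g⁻¹ * x * g ∈ (P : Subgroup G) ⊓ (MulAut.conj (g⁻¹ * h) • (P : Subgroup G)) := by
    constructor
    · have h5 : x ∈ ((g • P : Sylow p G) : Subgroup G) := hxQ
      rw [Sylow.coe_subgroup_smul] at h5
      obtain ⟨y, hy, hyx⟩ := h5
      have h6 : g * y * g⁻¹ = x := hyx
      rw [← h6]
      have h7 : g⁻¹ * (g * y * g⁻¹) * g = y := by group
      rw [h7]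
      exact hy
    · have h5 : x ∈ ((h • P : Sylow p G) : Subgroup G) := hxR
      rw [Sylow.coe_subgroup_smul] at h5
      obtain ⟨y, hy, hyx⟩ := h5
      have h6 : h * y * h⁻¹ = x := hyx
      refine ⟨y, hy, ?_⟩
      show g⁻¹ * h * y * (g⁻¹ * h)⁻¹ = g⁻¹ * x * g
      rw [← h6]
      group
  rw [h2, mem_bot] at hx2
  apply hx1
  have h8 : x = g * (g⁻¹ * x * g) * g⁻¹ := by group
  rw [h8, hx2, mul_one, mul_inv_cancel]

theorem stronglyP (hTI : IsTI p G) (P : Sylow p G) (hP1 : (P : Subgroup G) ≠ ⊥)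
    (hN : normalizer ((P : Subgroup G) : Set G) ≠ ⊤) :
    IsStronglyPEmbedded p (normalizer ((P : Subgroup G) : Set G)) := by
  refine of_normIn' ?_ hN ?_
  · obtain ⟨x, hx⟩ := Subgroup.ne_bot_iff_exists_ne_one.1 hP1
    have h1 : p ∣ Nat.card (P : Subgroup G) := by
      obtain ⟨k, hk⟩ := IsPGroup.iff_card.1 P.isPGroup'
      have hk0 : k ≠ 0 := by
        rintro rfl
        rw [pow_zero, Subgroup.card_eq_one] at hk
        exact hP1 hk
      rw [hk]
      exact dvd_pow_self p hk0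
    exact h1.trans (card_dvd_of_le le_normalizer)
  · intro Q hQ hQM hQ1 g hg
    have hQP : Q ≤ P := by
      have h1 : IsPGroup p ↥(Q ⊔ (P : Subgroup G)) := hQ.to_sup_of_normal_right' P.isPGroup' hQM
      have h2 := P.is_maximal' h1 le_sup_right
      rw [← h2]
      exact le_sup_left
    obtain ⟨x, hx⟩ := Subgroup.ne_bot_iff_exists_ne_one.1 hQ1
    refine Sylow.smul_eq_iff_mem_normalizer.1 ?_
    refine hTI.sylow_eq (x := x.1) ?_ (hQP x.2) (fun h => hx (Subtype.ext h))
    show x.1 ∈ ((g • P : Sylow p G) : Subgroup G)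
    rw [Sylow.coe_subgroup_smul]
    have hg' : g⁻¹ ∈ normalizer (Q : Set G) := inv_mem hg
    refine ⟨g⁻¹ * x.1 * g, hQP ?_, ?_⟩
    · have h3 := (mem_normalizer_iff.1 hg' x.1).1 x.2
      rwa [inv_inv] at h3
    · show g * (g⁻¹ * x.1 * g) * g⁻¹ = x.1
      group

theorem not_noSP [IsSimpleGroup G] (hna : ¬ IsMulCommutative G) (hTI : IsTI p G) {Q : Subgroup G} (hQ : IsPGroup p Q)
    (hQ1 : Q ≠ ⊥) : ¬ NoSP p G := by
  intro h
  obtain ⟨P, hP⟩ := hQ.exists_le_sylow
  have hP1 : (P : Subgroup G) ≠ ⊥ := by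
    intro h1
    rw [h1, le_bot_iff] at hP
    exact hQ1 hP
  refine h _ (stronglyP hTI P hP1 ?_)
  intro h1
  have h2 : (P : Subgroup G).Normal := normalizer_eq_top_iff.1 h1
  rcases h2.eq_bot_or_eq_top with h3 | h3
  · exact hP1 h3
  · apply hna
    have h4 : IsPGroup p G := by
      have : IsPGroup p (⊤ : Subgroup G) := h3 ▸ P.isPGroup'
      exact this.of_equiv Subgroup.topEquiv
    have h5 : (center G).Normal := inferInstance
    rcases h5.eq_bot_or_eq_top with h6 | h6
    · exfalso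
      have h7 := h4.center_nontrivial
      exact (Subgroup.nontrivial_iff_ne_bot _).1 h7 h6
    · refine ⟨⟨fun a b => ?_⟩⟩
      have h7 : b ∈ center G := by rw [h6]; exact mem_top b
      exact mem_center_iff.1 h7 a

theorem exists_ne_comm (hna : ¬ IsMulCommutative G) : ∃ a b : G, a * b ≠ b * a := by
  by_contra h
  push Not at h
  exact hna ⟨⟨h⟩⟩

end Cfsg.Agent.H666.Link
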