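import Mathlib
import Cfsg.Agent.H666.FixP
import Cfsg.Agent.ETable.Exc

/-!
# Normal `l`-subgroups of the groups `C_Y(t)^τ`, `Y = D.group k` (helper666)

* `sl_lev` : the rank one condition `FixP.SL` for the finite levels of `D.group k`;
* `endPR` : under the hypotheses of `BpExc.NChev.endN`: `PR l r (fixC τ t)`, `l ≠ r` an odd prime, `l ≠ 3` if `r = 2`.
-/

set_option autoImplicit false
set_option linter.unusedSectionVars false

namespace Cfsg.Agent.H666.FixChev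

open CoxeterSystem Cfsg Cfsg.Lie Cfsg.Lie.ChevalleyDatum
open Cfsg.Agent.ChevalleyStructure Cfsg.Agent.ChevalleyStructure.Elts Cfsg.Agent.ChevalleyStructure.CoxeterGeom
  Cfsg.Agent.ChevalleyStructure.CoxeterGeomTypes Cfsg.Agent.ChevalleyStructure.NPerm
open Cfsg.Agent.Tits.Roots Cfsg.Agent.Tits.Core Cfsg.Agent.Nodes Cfsg.Agent.Nodes.Reps Cfsg.Agent.Nodes.BNOf
  Cfsg.Agent.Nodes.RGDChev Cfsg.Agent.Nodes.Bruhat Cfsg.Agent.Nodes.NormalForm
open Cfsg.Agent.KFacts.RgdField Cfsg.Agent.KFacts.RgdChevCoord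
open Cfsg.Agent.BpExc Cfsg.Agent.BpExc.TorCent Cfsg.Agent.BpExc.TorChev Cfsg.Agent.BpExc.Tow
  Cfsg.Agent.BpExc.TowChev Cfsg.Agent.BpExc.Fr Cfsg.Agent.BpExc.Pair Cfsg.Agent.BpExc.LangFr Cfsg.Agent.GpExc.Field
  Cfsg.Agent.BpExc.NInst Cfsg.Agent.BpExc.NChev
open Cfsg.Agent.ChevalleyStructure.SL2Hom Cfsg.Agent.ETable.Exc
open scoped commutatorElement

universe u

section SLChev

variable {D : ChevalleyDatum} {k : Type u} [Field k]

theorem sl_cube (h2 : (2 : k) = 0) {t : k} (ht : t ≠ 0) : (up t * lo (-t⁻¹)) ^ 3 = (1 : Matrix.SpecialLinearGroup (Fin 2) k) := by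
  have hc : ((up t * lo (-t⁻¹) : Matrix.SpecialLinearGroup (Fin 2) k) : Matrix (Fin 2) (Fin 2) k) = !![0, t; -t⁻¹, 1] := by
    show !![(1 : k), t; 0, 1] * !![1, 0; -t⁻¹, 1] = _
    ext i j
    fin_cases i <;> fin_cases j <;> simp [Matrix.mul_apply, Fin.sum_univ_two, ht]
  apply Subtype.ext
  have h3 : (((up t * lo (-t⁻¹)) ^ 3 : Matrix.SpecialLinearGroup (Fin 2) k) : Matrix (Fin 2) (Fin 2) k) =
      !![0, t; -t⁻¹, 1] * !![0, t; -t⁻¹, 1] * !![0, t; -t⁻¹, 1] := by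
    rw [pow_succ, pow_succ, pow_one, Matrix.SpecialLinearGroup.coe_mul, Matrix.SpecialLinearGroup.coe_mul, hc]
  have h1 : (-1 : k) = 1 := by linear_combination -h2
  have h4 : (1 : k) + 1 = 0 := by rw [one_add_one_eq_two, h2]
  have h5 : t + t = 0 := by linear_combination t * h2
  rw [Matrix.SpecialLinearGroup.coe_one, h3]
  ext i j
  fin_cases i <;> fin_cases j <;> simp [Matrix.mul_apply, Fin.sum_univ_two, ht, h1, h4, h5]

theorem x_cube (hD : InList D) {r : ℕ} (hr : r < D.nroots) (h2 : (2 : k) = 0) {t : k} (ht : t ≠ 0) :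
    (xG hD r t * xG hD (D.neg r) (-t⁻¹)) ^ 3 = (1 : GL D.Idx k) := by
  rw [← phi_up hD hr, ← phi_lo hD hr, ← map_mul, ← map_pow, sl_cube h2 ht, map_one]

end SLChev

variable {D : ChevalleyDatum} {l : ℕ} {M : CoxeterMatrix (Fin l)} (hp : IsType D l M) {k : Type u} [Field k]
  {W : Type*} [Group W] (cs : CoxeterSystem M W)

/-- **Opposite root elements.** -/
theorem sl_lev (hk : LocFin k) (r : ℕ) [Fact r.Prime] [CharP k r] (E : Lev k) :
    FixP.SL ((tow (k := k) hp cs hk r).rgd E) := by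
  refine ⟨fun i y hy hy1 => ?_⟩
  have hs := simple_lt hp.inList (lt_rank hp i)
  have hns : D.neg (D.simple i) < D.nroots := neg_lt hp.inList hs
  have hv := vec_simple hp i
  rw [← hv] at hy ⊢
  obtain ⟨t, ht, rfl⟩ := (HX.mem_Xj hp hs).1 hy
  have ht0 : t ≠ 0 := by
    rintro rfl
    apply hy1
    apply Subtype.ext
    rw [coe_xc hp hs, xG_zero]
    rfl
  rw [← vec_neg hp hs]
  refine ⟨xc hp (vec D l (D.neg (D.simple i))) (-t⁻¹), (HX.mem_Xj hp hns).2 ⟨-t⁻¹, ?_, rfl⟩, ?_, ?_, ?_⟩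
  · exact neg_mem (inv_mem ht)
  · intro h1
    have h2 : xc hp (vec D l (D.neg (D.simple i))) (-t⁻¹) = xc hp (vec D l (D.neg (D.simple i))) (0 : k) := by
      rw [h1]
      apply Subtype.ext
      rw [coe_xc hp hns, xG_zero]
      rfl
    exact neg_ne_zero.2 (inv_ne_zero ht0) (xc_inj hp hns h2)
  · refine ⟨hc hp i t, ?_, ?_⟩
    · refine (HX.mem_Tj hp cs hk r).2 ⟨hc_mem hp i ht0, ⟨hc hp i (⟨t, ht⟩ : ↥E.1), ?_⟩⟩
      rw [emb_hc]
      rfl
    · apply Subtype.ext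
      rw [Subgroup.coe_mul, Subgroup.coe_mul, Subgroup.coe_mul, coe_xc hp hs, coe_xc hp hns]
      show _ = hG hp.inList (D.simple i) t * nG hp.inList (D.simple i) 1
      rw [hG_def, mul_assoc (nG hp.inList (D.simple i) t)]
      have h1 : nG hp.inList (D.simple i) (-1 : k) * nG hp.inList (D.simple i) 1 = 1 := by
        have e1 : (-(-1 : k)⁻¹) = 1 := by rw [inv_neg_one, _root_.neg_neg]
        have e2 : (-(1 : k)⁻¹) = -1 := by rw [inv_one]
        rw [nG_def, nG_def, e1, e2, ← xG_inv hp.inList (D.simple i) (1 : k),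
          ← xG_inv hp.inList (D.neg (D.simple i)) (1 : k)]
        group
      rw [h1, mul_one, nG_def, mul_assoc]
  · intro h2
    apply Subtype.ext
    rw [Subgroup.coe_pow, Subgroup.coe_mul, coe_xc hp hs, coe_xc hp hns, x_cube hp.inList hs _ ht0]
    · rfl
    · subst h2
      exact CharTwo.two_eq_zero

/-- integral combinations of the roots centralised by `t` -/
theorem sx_comb {A : Fin l → Fin l → ℤ} {h : IsCartan M A} {Y F : Type*} [Group Y] [Field F] {T : Subgroup Y}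
    {χ : (Fin l → ℤ) → Y → F} (hA : ChAdd cs h T χ) {t : Y} (ht : t ∈ T) :
    ∀ a ∈ Sx cs h χ t, ∀ b ∈ Sx cs h χ t, ∀ i j : ℤ, IsRoot cs h (i • a + j • b) → i • a + j • b ∈ Sx cs h χ t := by
  intro a ha b hb i j hr
  obtain ⟨φ, h0, hadd, hφ⟩ := hA t ht
  have hneg : ∀ x, φ x = 1 → φ (-x) = 1 := by
    intro x hx
    have h1 := hadd x (-x)
    rw [add_neg_cancel, h0, hx, one_mul] at h1
    exact h1.symm
  have hnat : ∀ x, φ x = 1 → ∀ m : ℕ, φ ((m : ℤ) • x) = 1 := by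
    intro x hx m
    induction m with
    | zero => rw [Nat.cast_zero, zero_smul, h0]
    | succ m ih => rw [Nat.cast_succ, add_smul, one_smul, hadd, ih, hx, one_mul]
  have hint : ∀ x, φ x = 1 → ∀ m : ℤ, φ (m • x) = 1 := by
    intro x hx m
    obtain ⟨n, rfl | rfl⟩ := m.eq_nat_or_neg
    · exact hnat x hx n
    · rw [neg_smul]
      exact hneg _ (hnat x hx n)
  refine ⟨hr, ?_⟩
  rw [hφ _ hr, hadd, hint a (by rw [← hφ a ha.1]; exact ha.2) i, hint b (by rw [← hφ b hb.1]; exact hb.2) j, one_mul]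

/-- **The data of `NInst.Dat` at a finite level.** -/
theorem exists_dat [IsAlgClosed k] (hk : LocFin k) {r e : ℕ} [Fact r.Prime] [CharP k r]
    {t : ↥(D.group k)} (ht : t ∈ TT D k) (he : 0 < e) {τ : MulAut ↥(D.group k)}
    (hτ : IsFrob r e τ) {g : (Fin l → ℤ) ≃+ (Fin l → ℤ)} (F : Fr cs hp.isCartan (TT D k) (XX D l k) τ g)
    (hτt : τ t = t) (hpos : ∀ a ∈ Sx cs hp.isCartan (ch hp) t, 0 ≤ a → 0 ≤ g a) [Finite ↥(fixC τ t)] :
    ∃ E : Lev k, Dat ((tow (k := k) hp cs hk r).rgd E) t (Sx cs hp.isCartan (ch hp) t) τ g := by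
  have := finite_W hp cs
  have H := tow (k := k) hp cs hk r
  have C := coordsL (k := k) hp cs hk r
  have hA := chAddL (k := k) hp cs hk r
  have hG := GG_eq_top (k := k) hp cs hk
  have hTL := TL_eq (k := k) hp hk
  have hXL := XL_eq (k := k) hp hk
  have F' : Fr cs hp.isCartan (TL (Tj hp (k := k))) (XL (Xj hp (k := k))) τ g := by rw [hTL, hXL]; exact F
  have hsep : ∀ a, IsRoot cs hp.isCartan a → ∃ s ∈ TL (Tj hp (k := k)), ∀ u ∈ XL (Xj hp (k := k)) a,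
      u * s = s * u → u = 1 := by
    rw [hTL, hXL]
    exact fun a ha => sep hp cs hk r ha
  -- the level
  obtain ⟨E1, hE1⟩ := HX.fr_level hp cs hk hτ F
  obtain ⟨E2, hE2⟩ := HX.exists_fixed_level hp cs hk he hτ F
  obtain ⟨E3, hE3⟩ := exists_TT hp hk ht
  obtain ⟨E4, hE4⟩ := exists_level_finite hp hk (S := (fixC τ t : Set ↥(D.group k))) (Set.toFinite _)
  obtain ⟨E5, a1, a2⟩ := dir_lev hk E1 E2
  obtain ⟨E6, a3, a4⟩ := dir_lev hk E3 E4
  obtain ⟨E, b1, b2⟩ := dir_lev hk E5 E6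
  have FE := hE1 E (a1.trans b1)
  have hX : ∀ a, Xj hp E a ≤ XX D l k a := fun a => by rw [← hXL]; exact le_XL E a
  obtain ⟨t', ht', htt⟩ := hE3 E (a3.trans b2)
  have htE : t ∈ Tj hp E := ⟨t', ht', htt⟩
  exact ⟨E,
    { mem := htE
      root := fun a ha => ha.1
      neg := fun a ha => chi_neg C ht hA ha
      cent := fun a ha => (hX a).trans (X_le_centralizer C ht ha)
      of_cent := fun a ha u hu hu1 hc => mem_Sx_of_centralizer C ht ha (hX a hu) hu1 hc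
      fr := FE
      fix := hτt
      pos := hpos
      rp := fun w kk hkk => by
        obtain ⟨w', hw'⟩ := rp_fr H hG hsep F' (H.rp_up hkk)
        obtain ⟨k0, h0, h0'⟩ := H.exists_rp w'
        have h1 : k0⁻¹ * τ kk ∈ TT D k := by
          rw [← hTL]
          exact h0'.unique hw'
        have h2 : k0⁻¹ * τ kk ∈ (emb hp.inList E.1.subtype).range := by
          rw [← GGj_eq hp cs]
          refine mul_mem (inv_mem ?_) (fr_GG FE ?_)
          · exact (mem_GG (H.rgd E)).2 ⟨w', cell_of_rp (h0 E)⟩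
          · exact (mem_GG (H.rgd E)).2 ⟨w, cell_of_rp hkk⟩
        have h3 : k0⁻¹ * τ kk ∈ Tj hp E := (HX.mem_Tj hp cs hk r).2 ⟨h1, h2⟩
        have e : τ kk = k0 * (k0⁻¹ * τ kk) := by group
        exact ⟨w', by rw [e]; exact (h0 E).mul_mem_right h3⟩
      comm := fun x hx y hy hxy hxy' a ha b hb => by
        have h1 := CommZ.comm_mem_Zj hp cs E hx.1 hy.1 hxy hxy' ha hb
        refine RGD.Sup_mono (S := CommZ.combZ cs hp x y) ?_ h1
        rintro z ⟨hz, i, j, hi, hj, e⟩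
        obtain ⟨φ, h0, hadd, hφ⟩ := hA t ht
        have hn : ∀ (i : ℕ) (x : Fin l → ℤ), φ (i • x) = φ x ^ i := by
          intro i x
          induction i with
          | zero => rw [zero_smul, pow_zero, h0]
          | succ i ih => rw [succ_nsmul, hadd, ih, pow_succ]
        refine ⟨⟨hz, ?_⟩, i, j, hi, hj, e⟩
        rw [hφ z hz, e, hadd, hn, hn, ← hφ x hx.1, ← hφ y hy.1, hx.2, hy.2, one_pow, one_pow, one_mul]
      fixed := fun a ha => hE2 E (a2.trans b1) a ha.1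
      le := fun y hy => by
        rw [GGj_eq hp cs]
        exact hE4 E (a4.trans b2) hy }⟩

/-- **Normal `s`-subgroups of `C_Y(t)^τ` centralise its `r`-elements.** -/
theorem endPR [IsAlgClosed k] (hk : LocFin k) {r e q s : ℕ} [Fact r.Prime] [CharP k r] (hq : q.Prime) (hqr : q ≠ r)
    {t : ↥(D.group k)} (ht : t ∈ TT D k) (htq : t ^ q = 1) (he : 0 < e) {τ : MulAut ↥(D.group k)}
    (hτ : IsFrob r e τ) {g : (Fin l → ℤ) ≃+ (Fin l → ℤ)} (F : Fr cs hp.isCartan (TT D k) (XX D l k) τ g)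
    (hτt : τ t = t) (hpos : ∀ a ∈ Sx cs hp.isCartan (ch hp) t, 0 ≤ a → 0 ≤ g a) [Finite ↥(fixC τ t)]
    (hs : s.Prime) (hsr : s ≠ r) (hs2 : s ≠ 2) (hs3 : r = 2 → s ≠ 3) :
    FixP.PR s r ↥(fixC τ t) := by
  have := finite_W hp cs
  obtain ⟨E, Dt⟩ := exists_dat hp cs hk ht he hτ F hτt hpos
  have H := tow (k := k) hp cs hk r
  have C := coordsL (k := k) hp cs hk r
  have hA := chAddL (k := k) hp cs hk r
  have hTL := TL_eq (k := k) hp hk
  have hXL := XL_eq (k := k) hp hk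
  have hT : Tj hp E ≤ TT D k := by rw [← hTL]; exact le_TL E
  have C' : Coords cs hp.isCartan (TL (Tj hp (k := k))) (nc hp k) (XL (Xj hp (k := k))) (xc hp) (ch hp) := by
    rw [hTL, hXL]; exact C
  have ht' : t ∈ TL (Tj hp (k := k)) := by rw [hTL]; exact ht
  have hchi : ∀ a, IsRoot cs hp.isCartan a → ch hp a t ^ q = 1 := by
    intro a ha
    have h0 : ch hp a (1 : ↥(D.group k)) = 1 := by
      have h1 := (C.coord a ha).chi_mul (one_mem (TT D k)) (one_mem _)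
      rw [mul_one] at h1
      exact (mul_eq_left₀ ((C.coord a ha).chi_ne_zero (one_mem _))).1 h1.symm
    have h1 : ∀ m : ℕ, ch hp a (t ^ m) = ch hp a t ^ m := by
      intro m
      induction m with
      | zero => rw [pow_zero, pow_zero, h0]
      | succ m ih => rw [pow_succ, pow_succ, (C.coord a ha).chi_mul (pow_mem ht m) ht, ih]
    rw [← h1, htq, h0]
  have hPP : ∀ w kk, Rp cs (H.rgd E).nsys w kk → kk ∈ Subgroup.centralizer {t} →
      (∀ a ∈ Sx cs hp.isCartan (ch hp) t, 0 ≤ a → 0 ≤ rep cs hp.isCartan w a) →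
      w ∈ PP cs hp.isCartan (ch hp) t := by
    refine fun w kk hkk hkt hw => ⟨fun a ha => ?_, hw⟩
    have h1 := C'.chi_rp H.nsys (H.rp_up hkk) ha ht'
    have h2 : kk * t * kk⁻¹ = t := by rw [Subgroup.mem_centralizer_singleton_iff.1 hkt]; group
    rwa [h2] at h1
  obtain ⟨hPs, -⟩ := Dt.main (fun a ha b hb => TT_comm hp a (hT ha) b (hT hb)) hq hqr
    (PP cs hp.isCartan (ch hp) t) (isPGroup_PP hA ht hq hchi) hPP
  exact FixP.pr Dt (sl_lev hp cs hk r E) (sx_comb cs hA ht) hs hsr hs2 hs3 hPs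

/-- **Nontrivial `r`-elements in `C_Y(t)^τ`**, if `t` centralises a root group. -/
theorem endR [IsAlgClosed k] (hk : LocFin k) {r e : ℕ} [Fact r.Prime] [CharP k r]
    {t : ↥(D.group k)} (ht : t ∈ TT D k) (he : 0 < e) {τ : MulAut ↥(D.group k)}
    (hτ : IsFrob r e τ) {g : (Fin l → ℤ) ≃+ (Fin l → ℤ)} (F : Fr cs hp.isCartan (TT D k) (XX D l k) τ g)
    (hτt : τ t = t) (hpos : ∀ a ∈ Sx cs hp.isCartan (ch hp) t, 0 ≤ a → 0 ≤ g a) [Finite ↥(fixC τ t)]
    (hne : (Sx cs hp.isCartan (ch hp) t).Nonempty) : ∃ u : ↥(fixC τ t), u ≠ 1 ∧ ∃ j : ℕ, u ^ r ^ j = 1 := by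
  have := finite_W hp cs
  obtain ⟨E, Dt⟩ := exists_dat hp cs hk ht he hτ F hτt hpos
  obtain ⟨u, hu, hu1, hτu⟩ := Dt.exists_fixed (Ψ := SP (Sx cs hp.isCartan (ch hp) t)) (by
    obtain ⟨a, ha⟩ := hne
    rcases ha.1.pos_or_neg with h1 | h1
    · exact ⟨a, ha, h1⟩
    · exact ⟨-a, Dt.neg a ha, neg_nonneg.2 h1⟩) subset_rfl
    (fun a ha => ⟨Dt.g_mem ha.1, Dt.pos a ha.1 ha.2⟩)
    (fun a ha b hb z hz ⟨i, j, _, _, e⟩ => ⟨hz, by
      rw [e]
      exact add_nonneg (nsmul_nonneg ha.2 i) (nsmul_nonneg hb.2 j)⟩)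
  have hr : IsPGroup r ↥(RGD.Sup (Xj hp E) (SP (Sx cs hp.isCartan (ch hp) t))) :=
    ((tow (k := k) hp cs hk r).rgd E).isPGroup_of_pos (S := SP (Sx cs hp.isCartan (ch hp) t))
      fun a ha => ⟨Dt.root a ha.1, ha.2⟩
  obtain ⟨j, hj⟩ := hr ⟨u, hu⟩
  have hj' : u ^ r ^ j = 1 := congrArg Subtype.val hj
  refine ⟨⟨u, mem_fixC.2 ⟨hτu, Subgroup.mem_centralizer_singleton_iff.1 (Dt.U_cent hu)⟩⟩, ?_, j, ?_⟩
  · intro h1
    exact hu1 (congrArg Subtype.val h1)
  · exact Subtype.ext hj'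

end Cfsg.Agent.H666.FixChev
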