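import Mathlib
import Cfsg.Agent.H666.Cls
import Cfsg.Agent.H818.StrP.Alt
import Cfsg.Agent.H469.RowAlt
import Cfsg.Agent.S0254

/-!
# TI Sylow subgroups of alternating groups, odd primes (helper666)

`row_alt` : TI Sylow `p`-subgroups, not cyclic: no strongly `p`-embedded subgroups, or `p = 3`, `A₆ ≅ PSL₂(9)`.
-/

set_option autoImplicit false

namespace Cfsg.Agent.H666.AltRow

open Subgroup Cfsg Cfsg.Agent.H666.TI Cfsg.Agent.H666.Cls Cfsg.Agent.H818.StrP Equiv

variable {p : ℕ} [hp : Fact p.Prime]

theorem two_card {n : ℕ} (hn : 2 ≤ n) : 2 * Nat.card (alternatingGroup (Fin n)) = n.factorial := by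
  have hnt : Nontrivial (Fin n) := Fin.nontrivial_iff_two_le.mpr hn
  rw [two_mul_nat_card_alternatingGroup, Nat.card_perm, Nat.card_eq_fintype_card, Fintype.card_fin]

/-- `A_p × A_p → A_{2p}` -/
def dbl (n : ℕ) : alternatingGroup (Fin n) × alternatingGroup (Fin n) →* alternatingGroup (Fin n ⊕ Fin n) :=
  ((Perm.sumCongrHom (Fin n) (Fin n)).comp
    (MonoidHom.prodMap (alternatingGroup (Fin n)).subtype (alternatingGroup (Fin n)).subtype)).codRestrict _
    (fun g => by
      rw [Perm.mem_alternatingGroup]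
      show Perm.sign (Perm.sumCongr (g.1 : Perm (Fin n)) (g.2 : Perm (Fin n))) = 1
      rw [Perm.sign_sumCongr, Perm.mem_alternatingGroup.1 g.1.2, Perm.mem_alternatingGroup.1 g.2.2, mul_one])

theorem dbl_injective (n : ℕ) : Function.Injective (dbl n) := by
  intro a b h
  have h1 : Perm.sumCongrHom (Fin n) (Fin n) ((a.1 : Perm (Fin n)), (a.2 : Perm (Fin n))) =
      Perm.sumCongrHom (Fin n) (Fin n) ((b.1 : Perm (Fin n)), (b.2 : Perm (Fin n))) := congrArg Subtype.val h
  have h2 := Perm.sumCongrHom_injective h1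
  exact Prod.ext (Subtype.ext (congrArg Prod.fst h2)) (Subtype.ext (congrArg Prod.snd h2))

theorem not_ti_two (h5 : 5 ≤ p) (hTI : IsTI p (alternatingGroup (Fin (p + p)))) : False := by
  have hTI2 : IsTI p (alternatingGroup (Fin p) × alternatingGroup (Fin p)) :=
    (hTI.congr (Equiv.altCongrHom finSumFinEquiv).symm).of_injective (dbl p) (dbl_injective p)
  have hc := two_card (n := p) (by omega)
  have hp2 : p ≠ 2 := by omega
  obtain ⟨g, hg⟩ := exists_prime_orderOf_dvd_card' (G := alternatingGroup (Fin p)) p (by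
    have h1 : p ∣ p.factorial := (hp.out.dvd_factorial).mpr le_rfl
    rw [← hc] at h1
    exact ((Nat.coprime_primes hp.out Nat.prime_two).mpr hp2).dvd_mul_left.1 h1)
  have hg1 : g ≠ 1 := by
    rintro rfl
    rw [orderOf_one] at hg
    exact hp.out.one_lt.ne hg
  refine hg1 (not_ti_of_hom hTI2 (MonoidHom.inr _ _) (fun a b hab => congrArg Prod.snd hab) ?_ (c := (g, 1))
    (fun h => hg1 (congrArg Prod.fst h)) ?_ ?_ (pElt_of_orderOf hg))
  · intro R hR hRp
    have hs : IsSimpleGroup (alternatingGroup (Fin p)) := alternatingGroup.isSimpleGroup (by simp; omega)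
    rcases hR.eq_bot_or_eq_top with h | h
    · exact h
    · exfalso
      rw [h] at hRp
      obtain ⟨k, hk⟩ := IsPGroup.iff_card.1 (hRp.of_equiv Subgroup.topEquiv)
      have h3 : 3 ∣ p.factorial := (Nat.prime_three.dvd_factorial).mpr (by omega)
      rw [← hc] at h3
      have h4 : 3 ∣ Nat.card (alternatingGroup (Fin p)) :=
        ((Nat.coprime_primes Nat.prime_three Nat.prime_two).mpr (by norm_num)).dvd_mul_left.1 h3
      rw [hk] at h4
      have h5' := (Nat.prime_dvd_prime_iff_eq Nat.prime_three hp.out).1 (Nat.prime_three.dvd_of_dvd_pow h4)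
      omega
  · exact (pElt_of_orderOf hg).map (MonoidHom.inl (alternatingGroup (Fin p)) (alternatingGroup (Fin p)))
  · intro l
    exact Prod.ext (by simp) (by simp)

theorem row_alt {G : Type*} [Group G] [Finite G] (hp2 : p ≠ 2) (hG : Cfsg.IsAlternating G) (hTI : IsTI p G)
    (hcyc : ¬ ∀ P : Sylow p G, IsCyclic ↥P) : NoSP p G ∨ (p = 3 ∧ ∃ (F : Type) (_ : Field F) (_ : Fintype F),
      Fintype.card F = 9 ∧ Nonempty (G ≃* Matrix.ProjectiveSpecialLinearGroup (Fin 2) F)) := by
  obtain ⟨n, hn, ⟨e⟩⟩ := hG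
  rcases Nat.lt_or_ge (2 * p) n with h | h
  · exact Or.inl (noSP_congr e.symm (Alt.noSP_alt hp2 h))
  rcases Nat.lt_or_ge n (2 * p) with h' | h'
  · exfalso
    apply hcyc
    intro P
    refine H469.sylow_congr e (fun Q => H469.isCyclic_of_card ?_ Q) P
    intro hd
    have h1 : p ^ 2 ∣ n.factorial := (two_card (n := n) (by omega)) ▸ (hd.mul_left 2)
    have h2 : n.factorial.factorization p < 2 := by
      by_contra hcon
      have h3 := Nat.Prime.pow_dvd_factorial_iff hp.out (n := n) (r := 2) (b := p) (by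
        refine Nat.log_lt_of_lt_pow (by omega) ?_
        have h4 := hp.out.two_le
        calc n < 2 * p := h'
          _ ≤ p ^ p := by
            calc 2 * p ≤ p * p := Nat.mul_le_mul_right p h4
              _ = p ^ 2 := (pow_two p).symm
              _ ≤ p ^ p := Nat.pow_le_pow_right hp.out.pos h4)
      have h5 := h3.1 h1
      have h6 : ∑ i ∈ Finset.Ico 1 p, n / p ^ i ≤ 1 := by
        have hp3 : 3 ≤ p := by have := hp.out.two_le; omega
        have h7 : ∑ i ∈ Finset.Ico 1 p, n / p ^ i = n / p + ∑ i ∈ Finset.Ico 2 p, n / p ^ i := by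
          rw [Finset.sum_eq_sum_Ico_succ_bot (by omega)]
          simp
        have h8 : ∑ i ∈ Finset.Ico 2 p, n / p ^ i = 0 := by
          apply Finset.sum_eq_zero
          intro i hi
          rw [Finset.mem_Ico] at hi
          apply Nat.div_eq_of_lt
          calc n < 2 * p := h'
            _ ≤ p * p := Nat.mul_le_mul_right p hp.out.two_le
            _ = p ^ 2 := (pow_two p).symm
            _ ≤ p ^ i := Nat.pow_le_pow_right hp.out.pos hi.1
        have h9 : n / p < 2 := Nat.div_lt_of_lt_mul (by rw [mul_comm]; exact h')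
        omega
      omega
    have h3 := (hp.out.pow_dvd_iff_le_factorization (Nat.factorial_ne_zero n)).1 h1
    omega
  · have hn2 : n = 2 * p := le_antisymm h h'
    subst hn2
    rcases Nat.lt_or_ge p 5 with h5 | h5
    · have hp3 : p = 3 := by
        have := hp.out
        interval_cases p <;> simp_all (config := {decide := true})
      subst hp3
      let _ : Fintype (GaloisField 3 2) := Fintype.ofFinite _
      have hF : Fintype.card (GaloisField 3 2) = 9 := by
        rw [← Nat.card_eq_fintype_card, GaloisField.card 3 2 (by norm_num)]; norm_num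
      obtain ⟨f⟩ := Cfsg.Agent.S0254.result hF
      exact Or.inr ⟨rfl, GaloisField 3 2, inferInstance, inferInstance, hF, ⟨e.trans f.symm⟩⟩
    · exfalso
      have h6 : IsTI p (alternatingGroup (Fin (p + p))) := by
        have := hTI.congr e
        rwa [two_mul] at this
      exact not_ti_two h5 h6

end Cfsg.Agent.H666.AltRow
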