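import Mathlib
import Cfsg.Agent.H666.ExcThree
import Cfsg.Agent.H296.FFourFix
import Cfsg.Agent.PreUniq.LowExc.TwF4Torus
import Cfsg.Agent.S1068

/-!
# TI Sylow subgroups of `²F₄(q)`, `q ≥ 8`, odd primes (helper666)

* `exists_fixed_inv` : an involutory automorphism normalising a subgroup of even order fixes an involution of it;
* `exists_comm_inv` : a `C_p × C_p` of `²F₄(q)` contains `c ≠ 1` commuting with an involution of `²F₄(q)`;
* `noSP_of_pair`;
* `not_ti` : TI Sylow `p`-subgroups of `p`-rank at least two: `p ∣ q - 1`;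
* `noSP_dvd` : `p ∣ q - 1`;
* `noSP_twF4`.
-/

set_option autoImplicit false
set_option linter.unusedSectionVars false

namespace Cfsg.Agent.H666.TwF

open Subgroup Cfsg Cfsg.Lie Cfsg.Agent.H666.TI Cfsg.Agent.H818.StrP

universe u

/-! ### fixed involutions -/

section Fix

variable {Y : Type*} [Group Y] [Finite Y]

theorem exists_fixed_inv (σ : Y →* Y) (hσ : ∀ y, σ (σ y) = y) {C : Subgroup Y} (hC : ∀ y ∈ C, σ y ∈ C) {x : Y}
    (hx : x * x = 1) (hx1 : x ≠ 1) (hxC : x ∈ C) : ∃ z ∈ C, z * z = 1 ∧ z ≠ 1 ∧ σ z = z := by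
  set d := x * σ x with hd
  have hdC : d ∈ C := C.mul_mem hxC (hC x hxC)
  have hxi : x⁻¹ = x := inv_eq_of_mul_eq_one_left hx
  have hsi : (σ x)⁻¹ = σ x := inv_eq_of_mul_eq_one_left (by rw [← map_mul, hx, map_one])
  have hσd : σ d = d⁻¹ := by rw [hd, map_mul, hσ, mul_inv_rev, hxi, hsi]
  have hxd : x * d * x⁻¹ = d⁻¹ := by
    rw [hd, mul_inv_rev, hxi, hsi, ← mul_assoc, hx, one_mul]
  have hxdn : ∀ n : ℕ, x * d ^ n = (d⁻¹) ^ n * x := by
    intro n
    rw [← hxd, conj_pow, inv_mul_cancel_right]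
  have hpos : 0 < orderOf d := orderOf_pos d
  rcases Nat.even_or_odd' (orderOf d) with ⟨k, hk | hk⟩
  · refine ⟨d ^ k, C.pow_mem hdC k, ?_, ?_, ?_⟩
    · rw [← pow_add, ← two_mul, ← hk, pow_orderOf_eq_one]
    · intro h
      have h1 := orderOf_dvd_of_pow_eq_one h
      have h2 := Nat.le_of_dvd (by omega) h1
      omega
    · rw [map_pow, hσd, inv_pow, inv_eq_iff_mul_eq_one, ← pow_add, ← two_mul, ← hk, pow_orderOf_eq_one]
  · have hk1 : d ^ (2 * k + 1) = 1 := by rw [← hk, pow_orderOf_eq_one]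
    refine ⟨d ^ k * x, C.mul_mem (C.pow_mem hdC k) hxC, ?_, ?_, ?_⟩
    · calc d ^ k * x * (d ^ k * x) = d ^ k * (x * d ^ k) * x := by group
        _ = d ^ k * ((d⁻¹) ^ k * x) * x := by rw [hxdn]
        _ = x * x := by rw [inv_pow]; group
        _ = 1 := hx
    · intro h
      have h1 : x = (d ^ k)⁻¹ := eq_inv_of_mul_eq_one_right h
      have h2 : x ^ (2 * k + 1) = 1 := by
        rw [h1, inv_pow, ← pow_mul, mul_comm k, pow_mul, hk1, one_pow, inv_one]
      rw [pow_succ, pow_mul, pow_two, hx, one_pow, one_mul] at h2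
      exact hx1 h2
    · have h1 : σ x = x * d := by rw [hd, ← mul_assoc, hx, one_mul]
      rw [map_mul, map_pow, hσd, h1, ← mul_assoc, inv_pow]
      have h3 : (d ^ k)⁻¹ = d ^ (k + 1) := by
        rw [inv_eq_iff_mul_eq_one, ← pow_add]
        rw [show k + (k + 1) = 2 * k + 1 by ring]
        exact hk1
      rw [h3, mul_assoc]
      have h4 := hxdn 1
      rw [pow_one, pow_one] at h4
      rw [h4, ← mul_assoc, pow_succ, mul_inv_cancel_right]

theorem exists_inv_pow {G : Type*} [Group G] {u : G} (hu : u ≠ 1) {j : ℕ} (hj : u ^ 2 ^ j = 1) :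
    ∃ n : ℕ, u ^ n * u ^ n = 1 ∧ u ^ n ≠ 1 := by
  induction j with
  | zero => rw [pow_zero, pow_one] at hj; exact absurd hj hu
  | succ j ih =>
    by_cases h : u ^ 2 ^ j = 1
    · exact ih h
    · refine ⟨2 ^ j, ?_, h⟩
      rw [← pow_add, ← two_mul, ← pow_succ']
      exact hj

end Fix


/-! ### a pair of commuting elements of order `p` -/

section Pair

open Cfsg.Agent.H296.FFour Cfsg.Agent.H79.SimpleGen Cfsg.Agent.Nodes.RGDChev

variable {K : Type} [Field K] [Fintype K] {m : ℕ}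

theorem sg_sg [CharP K 2] [PerfectRing K 2] (hK : Fintype.card K = 2 ^ (2 * m + 1)) {τ : K ≃+* K}
    (hτ : ∀ a, τ a = a ^ 2 ^ m) (a : ↥(chevF4.group K)) : sg τ (sg τ a) = a := by
  have h : (sg τ * sg τ : MulAut ↥(chevF4.group K)).toMonoidHom.eqLocus (MonoidHom.id _) = ⊤ := by
    refine eq_top_of_xS_mem hp4.inList _ fun r hr t => ?_
    show sg τ (sg τ (xS hp4.inList r t)) = xS hp4.inList r t
    obtain ⟨h1, h2, h3⟩ := tab r hr
    rw [sg_xS τ hr, sg_xS τ h1, h2, hτ, hτ]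
    congr 1
    rw [← pow_mul, ← pow_mul, ← pow_mul]
    have h4 : 2 ^ m * (la r * (2 ^ m * la (br r))) = 2 ^ (2 * m + 1) := by
      calc 2 ^ m * (la r * (2 ^ m * la (br r))) = 2 ^ m * 2 ^ m * (la r * la (br r)) := by ring
        _ = 2 ^ (2 * m + 1) := by rw [h3, ← pow_add, ← two_mul, pow_succ]
    rw [h4, ← hK]
    exact FiniteField.pow_card t
  have h5 : a ∈ (sg τ * sg τ : MulAut ↥(chevF4.group K)).toMonoidHom.eqLocus (MonoidHom.id _) := by
    rw [h]; trivial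
  exact h5

theorem exists_comm_inv (hK : Fintype.card K = 2 ^ (2 * m + 1)) {p : ℕ} (hp : p.Prime) (hp2 : p ≠ 2)
    {E : Subgroup ↥(twistedF4 K (2 ^ m))} (hE : IsElementaryAbelian p E) (hE2 : Nat.card E = p ^ 2) :
    ∃ c ∈ E, c ≠ 1 ∧ ∃ t : ↥(twistedF4 K (2 ^ m)), t * t = 1 ∧ t ≠ 1 ∧ c * t = t * c := by
  have hch : CharP K 2 := ChevalleyStructure.F4Fixed.charP_two hK
  have : Fact (Nat.Prime 2) := ⟨Nat.prime_two⟩
  have hperf : PerfectRing K 2 := inferInstance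
  let τ : K ≃+* K := iterateFrobeniusEquiv K 2 m
  have hτ : ∀ a, τ a = a ^ 2 ^ m := fun a => iterateFrobeniusEquiv_def K 2 m a
  have hle : twistedF4 K (2 ^ m) ≤ chevF4.group K := by
    intro g hg
    obtain ⟨a, rfl, -⟩ := le_fix hK hτ hg
    exact a.2
  let f : ↥(twistedF4 K (2 ^ m)) →* ↥(chevF4.group K) := Subgroup.inclusion hle
  have hf : Function.Injective f := Subgroup.inclusion_injective hle
  have hfix : ∀ g, sg τ (f g) = f g := by
    intro g
    obtain ⟨a, ha, h⟩ := le_fix hK hτ g.2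
    have : a = f g := Subtype.ext ha
    rw [← this]
    exact h
  have hP3 : H469.Exc.P3 2 ↥(chevF4.group K) :=
    H469.Exc.p3_of_chev ⟨K, inferInstance, inferInstance, inferInstance, Or.inr (Or.inl ⟨MulEquiv.refl _⟩)⟩
  have hcomm : ∀ a ∈ E, ∀ b ∈ E, a * b = b * a := fun a ha b hb =>
    congrArg Subtype.val (hE.1.is_comm.comm (⟨a, ha⟩ : E) ⟨b, hb⟩)
  obtain ⟨_, ⟨c, hc, rfl⟩, hc1, u, hu1, ⟨j, hj⟩, hcu⟩ := hP3.exists_mem hp hp2 hp2 (E := E.map f)
    (by rw [← hE2]; exact Nat.card_congr (Subgroup.equivMapOfInjective _ _ hf).toEquiv.symm)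
    (by
      rintro _ ⟨a, ha, rfl⟩ _ ⟨b, hb, rfl⟩
      rw [← map_mul, hcomm a ha b hb, map_mul])
    (by
      rintro _ ⟨a, ha, rfl⟩
      rw [← map_pow, hE.2 a ha, map_one])
  obtain ⟨n, hn, hn1⟩ := exists_inv_pow hu1 hj
  obtain ⟨z, hzC, hz, hz1, hσz⟩ := exists_fixed_inv (sg τ : MulAut ↥(chevF4.group K)).toMonoidHom (sg_sg hK hτ)
    (C := centralizer {f c}) (by
      intro y hy
      rw [mem_centralizer_singleton_iff] at hy ⊢
      show sg τ y * f c = f c * sg τ y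
      rw [← hfix c, ← map_mul, hy, map_mul, hfix]) (x := u ^ n) hn hn1 (by
      rw [mem_centralizer_singleton_iff]
      exact (Commute.pow_left (show Commute u (f c) from hcu.symm) n).eq)
  rw [mem_centralizer_singleton_iff] at hzC
  have hzT : (z : GL chevF4.Idx K) ∈ twistedF4 K (2 ^ m) := fix_le hK hτ hσz
  have hfz : f ⟨z, hzT⟩ = z := Subtype.ext rfl
  refine ⟨c, hc, fun h => hc1 (by rw [h, map_one]), ⟨z, hzT⟩, ?_, ?_, ?_⟩
  · apply hf
    rw [map_mul, hfz, hz, map_one]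
  · intro h
    apply hz1
    rw [← hfz, h, map_one]
  · apply hf
    rw [map_mul, map_mul, hfz]
    exact hzC.symm

end Pair

/-! ### the argument -/

section Core

variable {G : Type*} [Group G] [Finite G] {p : ℕ} [hp : Fact p.Prime]

theorem core (hp2 : p ≠ 2) (hTI : IsTI p G) {V C : Subgroup G} (hV : IsElementaryAbelian 2 V) (hV4 : 2 ^ 2 ≤ Nat.card V)
    (hC : ∀ v ∈ V, v ≠ 1 → centralizer {v} = C) {c : G} (hc : c ∈ C) (hcp : PElt p c) (hc1 : c ≠ 1) {e : G}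
    (he : PElt p e) (hce : c * e = e * c) : e ∈ C := by
  have : Fact (Nat.Prime 2) := ⟨Nat.prime_two⟩
  obtain ⟨P, hcP⟩ := exists_sylow_mem hcp
  have heP : e ∈ P := hTI.mem_of_comm hcP hc1 hce he
  have hVP : V ≤ normalizer ((P : Subgroup G) : Set G) := by
    intro v hv
    by_cases hv1 : v = 1
    · rw [hv1]; exact one_mem _
    have hvc : c * v = v * c := mem_centralizer_singleton_iff.1 (by rw [hC v hv hv1]; exact hc)
    refine Sylow.smul_eq_iff_mem_normalizer.1 ?_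
    refine hTI.sylow_eq (x := c) ?_ hcP hc1
    show c ∈ (v • P : Sylow p G)
    rw [← SetLike.mem_coe, Sylow.coe_smul]
    refine ⟨c, hcP, ?_⟩
    show v * c * v⁻¹ = c
    rw [← hvc, mul_inv_cancel_right]
  have h2 : ¬ 2 ∣ Nat.card (P : Subgroup G) := by
    intro h
    obtain ⟨n, hn⟩ := P.isPGroup'.exists_card_eq
    rw [hn] at h
    exact hp2 ((Nat.prime_dvd_prime_iff_eq Nat.prime_two hp.out).1 (Nat.prime_two.dvd_of_dvd_pow h)).symm
  have h3 := SignalizersComponents.CoprimeGen.le_iSup_centralizer_ne_one hV hV4 h2 hVP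
  have h4 : (P : Subgroup G) ≤ C := by
    refine h3.trans (iSup_le ?_)
    rintro ⟨v, hv, hv1⟩
    refine inf_le_right.trans ?_
    rw [hC v hv hv1]
  exact h4 heP

theorem noSP_of_pair {V V' E : Subgroup G} (hV : ¬ p ∣ Nat.card V) (hV' : ¬ p ∣ Nat.card V') (h : V ⊔ V' = ⊤)
    (hE : IsElementaryAbelian p E) (hE2 : p ^ 2 ≤ Nat.card E) (h1 : E ≤ normalizer (V : Set G))
    (h2 : E ≤ normalizer (V' : Set G)) : NoSP p G := by
  have hEp : IsPGroup p E := fun a => ⟨1, Subtype.ext (by rw [pow_one]; exact hE.2 a.1 a.2)⟩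
  intro M hM
  obtain ⟨g, hg⟩ := exists_conj_mem hM hEp
  set e := (MulAut.conj g).toMonoidHom with he
  have hinj : Function.Injective e := (MulAut.conj g).injective
  have hE' : IsElementaryAbelian p (E.map e) := by
    refine ⟨?_, ?_⟩
    · have := hE.1
      exact Subgroup.map_isMulCommutative E _
    · rintro _ ⟨x, hx, rfl⟩
      rw [← map_pow, hE.2 x hx, map_one]
  have hcard : ∀ A : Subgroup G, Nat.card ↥(A.map e) = Nat.card A := fun A =>
    (Nat.card_congr (Subgroup.equivMapOfInjective A e hinj).toEquiv).symm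
  have key : ∀ A : Subgroup G, ¬ p ∣ Nat.card A → E ≤ normalizer (A : Set G) → A.map e ≤ M := by
    intro A hA hEA
    refine coprime_le hM hE' (by rw [hcard]; exact hE2) hg (by rw [hcard]; exact hA) ?_
    rintro _ ⟨x, hx, rfl⟩
    exact Subgroup.le_normalizer_map e ⟨x, hEA hx, rfl⟩
  have htop : (⊤ : Subgroup G) ≤ M := by
    rw [← Subgroup.map_top_of_surjective e (MulAut.conj g).surjective, ← h, Subgroup.map_sup]
    exact sup_le (key V hV h1) (key V' hV' h2)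
  exact hM.2.1 (eq_top_iff.2 htop)

end Core

/-! ### `²F₄(q)` -/

section TwF

open Cfsg.Agent.SplitTwo Cfsg.Agent.SplitTwo.ZS Cfsg.Agent.KFacts.TwF4 Cfsg.Agent.PreUniq.LowExc.TwF4
  Cfsg.Agent.KFacts.TwF4.Inv Cfsg.Agent.KFacts.TwF4.SylU

variable {F : Type*} [Field F] {σ : F →+* F} {G : Type u} [Group G] (S : Full σ G)
variable [Finite F] [Finite G]

theorem zc_elem (a : ZMod 8) : IsElementaryAbelian 2 (S.Zc a) := by
  refine ⟨⟨⟨?_⟩⟩, ?_⟩
  · rintro ⟨_, u, rfl⟩ ⟨_, v, rfl⟩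
    apply Subtype.ext
    show S.e a 0 u * S.e a 0 v = S.e a 0 v * S.e a 0 u
    rw [S.e_mul, S.e_mul, zero_mul, add_zero, add_zero, add_zero, add_comm u v]
  · rintro _ ⟨u, rfl⟩
    rw [pow_two, S.e_mul, zero_mul, add_zero, add_zero, ← two_mul, S.two, zero_mul, S.e_zero]

theorem zc_card (a : ZMod 8) (hF : 4 ≤ Nat.card F) : 2 ^ 2 ≤ Nat.card (S.Zc a) := by
  refine le_trans (by norm_num; exact hF) (Nat.card_le_card_of_injective
    (fun u : F => (⟨S.e a 0 u, u, rfl⟩ : S.Zc a)) ?_)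
  intro u v huv
  exact (S.injE a _ _ _ _ (congrArg Subtype.val huv)).2

/-- the root group `X_5` -/
def Xo : Subgroup G where
  carrier := {g | ∃ t, S.o 2 t = g}
  one_mem' := ⟨0, S.o_zero 2⟩
  mul_mem' := by
    rintro _ _ ⟨u, rfl⟩ ⟨v, rfl⟩
    exact ⟨u + v, (S.o_add 2 u v).symm⟩
  inv_mem' := by
    rintro _ ⟨u, rfl⟩
    refine ⟨-u, ?_⟩
    have h : S.o 2 (-u) * S.o 2 u = 1 := by rw [S.o_add, neg_add_cancel, S.o_zero]
    exact eq_inv_of_mul_eq_one_left h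

theorem xo_elem : IsElementaryAbelian 2 (Xo S) := by
  refine ⟨⟨⟨?_⟩⟩, ?_⟩
  · rintro ⟨_, u, rfl⟩ ⟨_, v, rfl⟩
    apply Subtype.ext
    show S.o 2 u * S.o 2 v = S.o 2 v * S.o 2 u
    rw [S.o_add, S.o_add, add_comm]
  · rintro _ ⟨u, rfl⟩
    rw [pow_two, S.o_add, ← two_mul, S.two, zero_mul, S.o_zero]

theorem xo_card (hF : 4 ≤ Nat.card F) : 2 ^ 2 ≤ Nat.card (Xo S) := by
  refine le_trans (by norm_num; exact hF) (Nat.card_le_card_of_injective
    (fun u : F => (⟨S.o 2 u, u, rfl⟩ : Xo S)) ?_)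
  intro u v huv
  exact S.injO 2 (congrArg Subtype.val huv)

/-- **TI and an involution commuting with one element of order `p` of `E`: with all of them.** -/
theorem comm_all (hF : ∃ c : Fˣ, c ≠ 1) (hF4 : 4 ≤ Nat.card F) (hR : S.R.p = 2) {p : ℕ} [hp : Fact p.Prime]
    (hp2 : p ≠ 2) (hTI : IsTI p G) {c t e : G} (hc1 : c ≠ 1) (hcp : PElt p c) (ht : t * t = 1) (ht1 : t ≠ 1)
    (hct : c * t = t * c) (he : PElt p e) (hce : c * e = e * c) : e * t = t * e := by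
  have hback : ∀ k w C V, k * t * k⁻¹ = w → centralizer {w} = C → IsElementaryAbelian 2 V → 2 ^ 2 ≤ Nat.card V →
      (∀ v ∈ V, v ≠ 1 → centralizer {v} = C) → e * t = t * e := by
    intro k w C V hk hC hV hV4 hVC
    have h1 : k * c * k⁻¹ ∈ C := by
      rw [← hC, mem_centralizer_singleton_iff, ← hk]
      calc k * c * k⁻¹ * (k * t * k⁻¹) = k * (c * t) * k⁻¹ := by group
        _ = k * (t * c) * k⁻¹ := by rw [hct]
        _ = _ := by group
    have h2 := core hp2 hTI hV hV4 hVC h1 (hcp.conj k) (by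
      intro h
      apply hc1
      have h3 : c = k⁻¹ * (k * c * k⁻¹) * k := by group
      rw [h3, h]; group) (he.conj k) (by
      calc k * c * k⁻¹ * (k * e * k⁻¹) = k * (c * e) * k⁻¹ := by group
        _ = k * (e * c) * k⁻¹ := by rw [hce]
        _ = _ := by group)
    rw [← hC, mem_centralizer_singleton_iff, ← hk] at h2
    have h4 : e * t = k⁻¹ * (k * e * k⁻¹ * (k * t * k⁻¹)) * k := by group
    rw [h4, h2]; group
  rcases classes S hF hR ht ht1 with ⟨u, hu, k, hk⟩ | ⟨s, hs, k, hk⟩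
  · have e1 : S.rot * (S.rot * k) * t * (S.rot * (S.rot * k))⁻¹ = S.e 2 0 u := by
      calc S.rot * (S.rot * k) * t * (S.rot * (S.rot * k))⁻¹ = S.rot * (S.rot * (k * t * k⁻¹) * S.rot⁻¹) * S.rot⁻¹ := by
            group
        _ = S.e 2 0 u := by rw [hk, S.rot_e, S.rot_e]; rfl
    have hz1 : S.e 2 0 u ≠ 1 := fun h => hu (S.e_eq_one h).2
    exact hback _ _ S.PL (S.Zc 2) e1 (S.centralizer_z ⟨u, rfl⟩ hz1) (zc_elem S 2) (zc_card S 2 hF4)
      (fun v hv hv1 => S.centralizer_z hv hv1)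
  · have e1 : S.rot * (S.rot * k) * t * (S.rot * (S.rot * k))⁻¹ = S.o 2 s := by
      calc S.rot * (S.rot * k) * t * (S.rot * (S.rot * k))⁻¹ = S.rot * (S.rot * (k * t * k⁻¹) * S.rot⁻¹) * S.rot⁻¹ := by
            group
        _ = S.o 2 s := by rw [hk, S.rot_o, S.rot_o]; rfl
    refine hback _ _ S.HO (Xo S) e1 (S.centralizer_o hs) (xo_elem S) (xo_card S hF4) ?_
    rintro _ ⟨v, rfl⟩ hv1
    refine S.centralizer_o fun h => hv1 ?_
    rw [h, S.o_zero]

/-- **`p ∣ q - 1`** -/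
theorem noSP_dvd (hR : S.R.p = 2) {p : ℕ} [hp : Fact p.Prime] (hp2 : p ≠ 2) (h : p ∣ Nat.card F - 1) : NoSP p G := by
  classical
  have : Fintype F := Fintype.ofFinite F
  have hpc : p ∣ Nat.card Fˣ := by rw [Nat.card_units]; exact h
  obtain ⟨ζ, hζ⟩ := exists_prime_orderOf_dvd_card' p hpc
  have hpow : ∀ c d : Fˣ, ∀ n : ℕ, S.h c d ^ n = S.h (c ^ n) (d ^ n) := by
    intro c d n
    induction n with
    | zero => rw [pow_zero, pow_zero, pow_zero, S.h_one]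
    | succ n ih => rw [pow_succ, ih, S.h_mul, pow_succ, pow_succ]
  let f : Fˣ × Fˣ →* G :=
    { toFun := fun x => S.h x.1 x.2
      map_one' := S.h_one
      map_mul' := fun x y => (S.h_mul _ _ _ _).symm }
  have hf : Function.Injective f := fun x y hxy => by
    obtain ⟨h1, h2⟩ := S.h_inj _ _ _ _ hxy
    exact Prod.ext h1 h2
  let A : Subgroup (Fˣ × Fˣ) := (zpowers ζ).prod (zpowers ζ)
  have hA : Nat.card A = p ^ 2 := by
    rw [Nat.card_congr (Subgroup.prodEquiv (zpowers ζ) (zpowers ζ)).toEquiv, Nat.card_prod, Nat.card_zpowers, hζ, pow_two]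
  have hE : IsElementaryAbelian p (A.map f) := by
    refine ⟨⟨⟨?_⟩⟩, ?_⟩
    · rintro ⟨_, a, ha, rfl⟩ ⟨_, b, hb, rfl⟩
      apply Subtype.ext
      show f a * f b = f b * f a
      rw [← map_mul, mul_comm, map_mul]
    · rintro _ ⟨⟨a, b⟩, ⟨⟨i, hi⟩, ⟨j, hj⟩⟩, rfl⟩
      have hz : ζ ^ p = 1 := by rw [← hζ]; exact pow_orderOf_eq_one ζ
      have h1 : ∀ i : ℤ, (ζ ^ i) ^ p = 1 := fun i => by
        rw [← zpow_natCast, ← zpow_mul, mul_comm, zpow_mul, zpow_natCast, hz, one_zpow]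
      have hi' : a = ζ ^ i := hi.symm
      have hj' : b = ζ ^ j := hj.symm
      rw [← map_pow]
      have : ((a, b) : Fˣ × Fˣ) ^ p = 1 := Prod.ext (by rw [hi']; exact h1 i) (by rw [hj']; exact h1 j)
      rw [this, map_one]
  have hE2 : p ^ 2 ≤ Nat.card ↥(A.map f) := by
    rw [← hA]
    exact (Nat.card_congr (Subgroup.equivMapOfInjective A f hf).toEquiv).le
  have hEn : ∀ a b : ℤ, A.map f ≤ normalizer ((J S.XZ a b : Subgroup G) : Set G) := by
    intro a b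
    rintro _ ⟨⟨x, y⟩, -, rfl⟩
    have hT : f (x, y) ∈ S.T := S.mem_T.2 ⟨x, y, rfl⟩
    rw [mem_normalizer_iff]
    intro z
    refine ⟨fun hz => S.T_conj_J hT hz, fun hz => ?_⟩
    have h1 := S.T_conj_J (inv_mem hT) hz
    have e : (f (x, y))⁻¹ * (f (x, y) * z * (f (x, y))⁻¹) * (f (x, y))⁻¹⁻¹ = z := by group
    rwa [e] at h1
  have hnd : ∀ a b : ℤ, b < a + 8 → ¬ p ∣ Nat.card ↥(J S.XZ a b) := by
    intro a b hab hd
    have : Fact (Nat.Prime 2) := ⟨Nat.prime_two⟩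
    obtain ⟨n, hn⟩ := (Perf.two_J S hR hab).exists_card_eq
    rw [hn] at hd
    exact hp2 ((Nat.prime_dvd_prime_iff_eq hp.out Nat.prime_two).1 (hp.out.dvd_of_dvd_pow hd))
  refine noSP_of_pair (hnd 1 8 (by norm_num)) (hnd 9 16 (by norm_num)) ?_ hE hE2 (hEn 1 8) (hEn 9 16)
  rw [eq_top_iff, ← S.R.gen]
  refine iSup_le fun i => ?_
  have key : ∀ k : ℤ, 1 ≤ k → k ≤ 16 → S.XZ k ≤ J S.XZ 1 8 ⊔ J S.XZ 9 16 := by
    intro k h1 h2
    rcases le_or_gt k 8 with h3 | h3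
    · exact (X_le_J h1 h3).trans le_sup_left
    · exact (X_le_J (by omega) h2).trans le_sup_right
  have hi : ∀ i : ZMod (2 * 8), ∃ k : ℕ, 1 ≤ k ∧ k ≤ 16 ∧ ((k : ℤ) : ZMod (2 * 8)) = i := by
    intro i
    have hlt : (i - 1).val < 2 * 8 := ZMod.val_lt (i - 1)
    refine ⟨(i - 1).val + 1, by omega, by omega, ?_⟩
    push_cast
    rw [ZMod.natCast_zmod_val, sub_add_cancel]
  obtain ⟨k, h1, h2, rfl⟩ := hi i
  exact key k (by exact_mod_cast h1) (by exact_mod_cast h2)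

end TwF

/-- **`²F₄(q)`, `q ≥ 8`, `p` odd.** -/
theorem noSP_twF4 {K : Type} [Field K] [Fintype K] {m : ℕ} (hm : 1 ≤ m) (hK : Fintype.card K = 2 ^ (2 * m + 1))
    {p : ℕ} [hp : Fact p.Prime] (hp2 : p ≠ 2) (hTI : IsTI p ↥(twistedF4 K (2 ^ m)))
    {E : Subgroup ↥(twistedF4 K (2 ^ m))} (hE : IsElementaryAbelian p E) (hE2 : Nat.card E = p ^ 2) :
    NoSP p ↥(twistedF4 K (2 ^ m)) := by
  classical
  obtain ⟨φ, hφ⟩ := Cfsg.Agent.ChevalleyStructure.TwF4.TwistedFix.exists_rln hK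
  have := Cfsg.Agent.ChevalleyStructure.TwF4.Twisted.charP_two hK
  have h8 : 8 ≤ Fintype.card K := by
    rw [hK]
    calc 8 = 2 ^ 3 := by norm_num
      _ ≤ 2 ^ (2 * m + 1) := Nat.pow_le_pow_right (by norm_num) (by omega)
  set S := Cfsg.Agent.KFacts.TwF4.Inst.full hK hφ with hS
  by_cases hpq : p ∣ Nat.card K - 1
  · exact noSP_dvd S rfl hp2 hpq
  · exfalso
    obtain ⟨s, hs, hs1⟩ := ExcThree.exists_ne_zero_one (F := K) (by omega)
    obtain ⟨c, hc, hc1, t, ht, ht1, hct⟩ := exists_comm_inv hK hp.out hp2 hE hE2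
    have hcomm : ∀ a ∈ E, ∀ b ∈ E, a * b = b * a := fun a ha b hb =>
      congrArg Subtype.val (hE.1.is_comm.comm (⟨a, ha⟩ : E) ⟨b, hb⟩)
    refine PreUniq.LowExc.TwF4.not_pair_twistedF4 hm hK hp.out hp2 hpq hE hE2 ht ht1 fun e he => ?_
    exact comm_all S ⟨Units.mk0 s hs, fun h => hs1 (congrArg Units.val h)⟩
      (by rw [Nat.card_eq_fintype_card]; omega) rfl hp2 hTI hc1 (pElt_of_pow (hE.2 c hc)) ht ht1 hct
      (pElt_of_pow (hE.2 e he)) (hcomm c hc e he)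

end Cfsg.Agent.H666.TwF
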