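import Mathlib
import Cfsg.Agent.H242.StrP.UniThree
import Cfsg.Agent.H666.Link

/-!
# TI Sylow subgroups of `PSL_n(q)` and `PSU_n(q)`, odd primes, cross characteristic (helper666)

* `not_ti_three` : `PSU_3(q)`, `p = 3`, `q + 1` with a divisor prime to `3`;
* `noSP_psu`, `noSP_psl`.
-/

set_option autoImplicit false
set_option linter.unusedSectionVars false

namespace Cfsg.Agent.H666.UniRow

open Cfsg Subgroup Cfsg.Agent.H666.TI Cfsg.Agent.H818.StrP Cfsg.Agent.H818.StrP.Opp Cfsg.Agent.PreUniq.Cl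
  Cfsg.Agent.H242.StrP Cfsg.Agent.H242.StrP.Uni
  Cfsg.Agent.LieClassical.HermBasic Cfsg.Agent.ClassicalGeometry.UnitTransv Cfsg.Agent.ClassicalGeometry.HermOrtho

variable {F : Type} [Field F] [Fintype F] {q r p : ℕ} {G : Type*} [Group G] [Finite G]

/-- the cyclic shift -/
theorem exists_shift : ∃ C : SU 3 F q, ∀ v, act C v = ![v 1, v 2, v 0] := by
  have hv : ∀ v : Fin 3 → F, Matrix.mulVec (!![0, 1, 0; 0, 0, 1; 1, 0, 0] : Matrix (Fin 3) (Fin 3) F) v = ![v 1, v 2, v 0] := by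
    intro v
    funext i
    fin_cases i <;> simp [Matrix.mulVec, dotProduct, Fin.sum_univ_three]
  refine ⟨⟨⟨!![0, 1, 0; 0, 0, 1; 1, 0, 0], by simp [Matrix.det_fin_three]⟩, ?_⟩, fun v => ?_⟩
  · intro u v
    show hermForm 3 F q (Matrix.mulVec _ u) (Matrix.mulVec _ v) = hermForm 3 F q u v
    have h1 := hv u
    have h2 := hv v
    show hermForm 3 F q (Matrix.mulVec (!![0, 1, 0; 0, 0, 1; 1, 0, 0] : Matrix (Fin 3) (Fin 3) F) u)
      (Matrix.mulVec (!![0, 1, 0; 0, 0, 1; 1, 0, 0] : Matrix (Fin 3) (Fin 3) F) v) = hermForm 3 F q u v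
    rw [h1, h2, herm_def, herm_def, Fin.sum_univ_three, Fin.sum_univ_three]
    simp only [Matrix.cons_val_zero, Matrix.cons_val_one, Matrix.cons_val_two, Matrix.head_cons, Matrix.tail_cons,
      Matrix.cons_val]
    ring
  · rw [act_def]
    exact hv v

/-- **`PSU_3(q)`, `p = 3`, `3 k = q + 1`, `k ≥ 2` prime to `3`: not TI.** -/
theorem not_ti_three (hF : Fintype.card F = q ^ 2) (e : G ≃* PSU 3 F q) (hTI : IsTI 3 G) {w a : Fˣ}
    (hwq : w ^ (q + 1) = 1) (hw3 : w ^ 3 = 1) (hw1 : w ≠ 1) {k : ℕ} (hk : ¬ 3 ∣ k) (haq : a ^ (q + 1) = 1)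
    (hak : a ^ k = 1) (ha1 : a ≠ 1) : False := by
  have : Fact (Nat.Prime 3) := ⟨Nat.prime_three⟩
  obtain ⟨C, hC⟩ := exists_shift (F := F) (q := q)
  have hainv : (a⁻¹) ^ (q + 1) = 1 := by rw [inv_pow, haq, inv_one]
  obtain ⟨D, hD⟩ := exists_dgSU (n := 3) hF (d := ![1, w, w ^ 2]) (by
    rw [Fin.prod_univ_three]
    simp only [Matrix.cons_val_zero, Matrix.cons_val_one, Matrix.cons_val_two, Matrix.head_cons, Matrix.tail_cons,
      Matrix.cons_val]
    rw [one_mul, ← pow_succ', hw3]) (by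
    intro i
    fin_cases i
    · exact one_pow _
    · exact hwq
    · show (w ^ 2) ^ (q + 1) = 1
      rw [← pow_mul, mul_comm, pow_mul, hwq, one_pow])
  obtain ⟨Z, hZ⟩ := exists_dgSU (n := 3) hF (d := ![w, w, w]) (by
    rw [Fin.prod_univ_three]
    simp only [Matrix.cons_val_zero, Matrix.cons_val_one, Matrix.cons_val_two, Matrix.head_cons, Matrix.tail_cons,
      Matrix.cons_val]
    rw [← pow_two, ← pow_succ, hw3]) (by
    intro i
    fin_cases i
    · exact hwq
    · exact hwq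
    · exact hwq)
  obtain ⟨T, hT⟩ := exists_dgSU (n := 3) hF (d := ![a, a⁻¹, 1]) (by
    rw [Fin.prod_univ_three]
    simp only [Matrix.cons_val_zero, Matrix.cons_val_one, Matrix.cons_val_two, Matrix.head_cons, Matrix.tail_cons,
      Matrix.cons_val]
    rw [mul_inv_cancel, mul_one]) (by
    intro i
    fin_cases i
    · exact haq
    · exact hainv
    · exact one_pow _)
  obtain ⟨T', hT'⟩ := exists_dgSU (n := 3) hF (d := ![a⁻¹, 1, a]) (by
    rw [Fin.prod_univ_three]
    simp only [Matrix.cons_val_zero, Matrix.cons_val_one, Matrix.cons_val_two, Matrix.head_cons, Matrix.tail_cons,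
      Matrix.cons_val]
    rw [mul_one, inv_mul_cancel]) (by
    intro i
    fin_cases i
    · exact hainv
    · exact one_pow _
    · exact haq)
  have hZc : Z ∈ center (SU 3 F q) := by
    rw [mem_center_iff]
    intro x
    apply ext_act
    intro v
    have h1 : ∀ u, act Z u = (w : F) • u := by
      intro u
      rw [hZ]
      funext i
      fin_cases i <;> rfl
    rw [act_mul, act_mul, h1, h1, act_def, act_def, Matrix.mulVec_smul]
  have hZ1 : projC e Z = 1 := (projC_eq_one_iff e).2 hZc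
  have hCD : C * D = Z * (D * C) := by
    apply ext_act
    intro v
    rw [act_mul, act_mul, act_mul, hC, hC, hD, hD, hZ]
    funext i
    fin_cases i
    · show (w : F) * v 1 = w * (((1 : Fˣ) : F) * v 1)
      rw [Units.val_one, one_mul]
    · show ((w ^ 2 : Fˣ) : F) * v 2 = w * (w * v 2)
      rw [Units.val_pow_eq_pow_val]; ring
    · show (((1 : Fˣ) : F) * v 0) = w * (((w ^ 2 : Fˣ) : F) * v 0)
      have h3 : (w : F) * ((w ^ 2 : Fˣ) : F) = 1 := by
        rw [← Units.val_mul, ← pow_succ', hw3, Units.val_one]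
      rw [← mul_assoc, h3, Units.val_one]
  have hCT : C * T = T' * C := by
    apply ext_act
    intro v
    rw [act_mul, act_mul, hC, hC, hT, hT']
    funext i
    fin_cases i <;> rfl
  have hC3 : C ^ 3 = 1 := by
    apply ext_act
    intro v
    rw [pow_succ, pow_two, act_mul, act_mul, hC, hC, hC, act_one]
    funext i
    fin_cases i <;> rfl
  have hD3 : D ^ 3 = 1 := by
    refine act_one_dg ?_
    have h1 := act_pow_dg hD 3
    have h2 : (![1, w, w ^ 2] : Fin 3 → Fˣ) ^ 3 = 1 := by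
      funext i
      fin_cases i
      · exact one_pow _
      · exact hw3
      · show (w ^ 2) ^ 3 = 1
        rw [← pow_mul, mul_comm, pow_mul, hw3, one_pow]
    rw [h2] at h1
    exact h1
  have hab : projC e D * projC e C = projC e C * projC e D := by
    rw [← map_mul, ← map_mul, hCD, map_mul (projC e) Z, hZ1, one_mul]
  have hav : projC e D * projC e T = projC e T * projC e D := by
    rw [← map_mul, ← map_mul, comm_dg hD hT]
  have hda : projC e D ≠ 1 := by
    intro h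
    have h1 := eq_of_center hF le_rfl hD ((projC_eq_one_iff e).1 h) 0 1
    exact hw1 h1.symm
  have hdT : ∀ v, act (T' * T⁻¹) v = fun i => (((![a⁻¹, 1, a] * (![a, a⁻¹, 1])⁻¹ : Fin 3 → Fˣ) i : Fˣ) : F) * v i :=
    act_mul_dg hT' (act_inv_dg hT)
  have hdd : ((![a⁻¹, 1, a] * (![a, a⁻¹, 1])⁻¹ : Fin 3 → Fˣ)) ^ k = 1 := by
    funext i
    fin_cases i
    · show (a⁻¹ * a⁻¹) ^ k = 1
      rw [mul_pow, inv_pow, hak, inv_one, mul_one]
    · show (1 * (a⁻¹)⁻¹) ^ k = 1
      rw [inv_inv, one_mul, hak]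
    · show (a * 1⁻¹) ^ k = 1
      rw [inv_one, mul_one, hak]
  have hKk : (T' * T⁻¹) ^ k = 1 := by
    refine act_one_dg ?_
    have h1 := act_pow_dg hdT k
    rw [hdd] at h1
    exact h1
  have hcom : projC e C * projC e T * (projC e C)⁻¹ * (projC e T)⁻¹ = projC e (T' * T⁻¹) := by
    rw [← map_mul, hCT, ← map_inv, ← map_inv, ← map_mul, ← map_mul, mul_inv_cancel_right]
  have hfin := hTI.comm_eq_one hda (pElt_of_pow (by rw [← map_pow, hD3, map_one]))
    (pElt_of_pow (by rw [← map_pow, hC3, map_one])) hab hav (n := k) (by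
      rw [hcom, ← map_pow, hKk, map_one]) hk
  have h1 : projC e (T' * T⁻¹) = 1 := by
    rw [← hcom, hfin, mul_inv_cancel_right, mul_inv_cancel]
  have h2 := eq_of_center hF le_rfl hdT ((projC_eq_one_iff e).1 h1) 0 1
  have h3 : a⁻¹ * a⁻¹ = a := by
    have h4 : a⁻¹ * a⁻¹ = 1 * (a⁻¹)⁻¹ := h2
    rwa [one_mul, inv_inv] at h4
  have h4 : a ^ 3 = 1 := by
    calc a ^ 3 = a ^ 2 * a := pow_succ a 2
      _ = a ^ 2 * (a⁻¹ * a⁻¹) := by rw [h3]
      _ = 1 := by rw [pow_two]; group
  exact ha1 ((show PElt 3 a from ⟨1, by rw [pow_one]; exact h4⟩).eq_one hak hk)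

theorem exists_unit {n : ℕ} (hn : n ∣ Fintype.card F - 1) (hn0 : n ≠ 0) : ∃ a : Fˣ, orderOf a = n := by
  classical
  obtain ⟨g, hg⟩ := IsCyclic.exists_generator (α := Fˣ)
  have h1 : orderOf g = Fintype.card F - 1 := by
    rw [orderOf_eq_card_of_forall_mem_zpowers hg, Nat.card_eq_fintype_card, Fintype.card_units]
  obtain ⟨m, hm⟩ := hn
  have hm0 : m ≠ 0 := by
    rintro rfl
    have h2 := Fintype.one_lt_card (α := F)
    omega
  refine ⟨g ^ m, ?_⟩
  rw [orderOf_pow_of_dvd hm0 (by rw [h1, hm]; exact dvd_mul_left _ _), h1, hm]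
  exact Nat.mul_div_cancel _ (Nat.pos_of_ne_zero hm0)

variable [IsSimpleGroup G] [hp : Fact p.Prime] [hr : Fact r.Prime]

theorem noSP_psu (hp2 : p ≠ 2) (hpr : p ≠ r) (hna : ¬ IsMulCommutative G) (hG : IsPSUChar r G) (hTI : IsTI p G)
    (hcyc : ¬ ∀ P : Sylow p G, IsCyclic P) : NoSP p G := by
  obtain ⟨F, _, _, _, n, q, hF, hn, h32, ⟨e⟩⟩ := hG
  have hq1 : 1 ≤ q := by
    rcases Nat.eq_zero_or_pos q with h | h
    · subst h
      have := Fintype.card_pos (α := F)
      rw [hF] at this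
      simp at this
    · exact h
  have hqd : q + 1 ∣ Fintype.card F - 1 := by
    rw [hF]
    have h1 : q ^ 2 - 1 = (q + 1) * (q - 1) := by
      have := Nat.sq_sub_sq q 1
      simpa using this
    rw [h1]
    exact dvd_mul_right _ _
  by_cases hpq : p ∣ q + 1
  · have hor : ∀ {k : ℕ}, k ∣ q + 1 → k ≠ 0 → ∃ a : Fˣ, orderOf a = k ∧ a ^ (q + 1) = 1 := by
      intro k hk hk0
      obtain ⟨a, ha⟩ := exists_unit (hk.trans hqd) hk0
      refine ⟨a, ha, ?_⟩
      rw [← orderOf_dvd_iff_pow_eq_one, ha]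
      exact hk
    obtain ⟨w, hw, hwq⟩ := hor hpq hp.out.ne_zero
    have hwp : w ^ p = 1 := by rw [← hw]; exact pow_orderOf_eq_one w
    have hw1 : w ≠ 1 := by
      rintro rfl
      rw [orderOf_one] at hw
      exact hp.out.one_lt.ne hw
    rcases Nat.lt_or_ge n 4 with h4 | h4
    · have hn3 : n = 3 := by omega
      subst hn3
      have hq2 : q ≠ 2 := fun h => h32 ⟨rfl, h⟩
      by_cases hp3 : p = 3
      · subst hp3
        obtain ⟨k, hk⟩ := hpq
        by_cases h9 : 3 ∣ k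
        · obtain ⟨m, hm, hmq⟩ := hor (k := 9) (by rw [hk]; exact Nat.mul_dvd_mul_left 3 h9) (by norm_num)
          refine noSP_three_of_root hF hq2 e (m := m) hmq ?_ ?_
          · intro h
            have h5 := orderOf_dvd_of_pow_eq_one h
            rw [hm] at h5
            exact absurd (Nat.le_of_dvd (by norm_num) h5) (by norm_num)
          · show m ^ 9 = 1
            rw [← hm]; exact pow_orderOf_eq_one m
        · exfalso
          have hk2 : 2 ≤ k := by omega
          obtain ⟨a, ha, haq⟩ := hor (k := k) ⟨3, by rw [hk, mul_comm]⟩ (by omega)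
          refine not_ti_three hF e hTI hwq hwp hw1 h9 haq (by rw [← ha]; exact pow_orderOf_eq_one a) ?_
          rintro rfl
          rw [orderOf_one] at ha
          omega
      · refine noSP_three_of_root hF hq2 e (m := w) hwq ?_ ?_
        · intro h
          have h5 := orderOf_dvd_of_pow_eq_one h
          rw [hw] at h5
          exact hp3 ((Nat.prime_dvd_prime_iff_eq hp.out Nat.prime_three).1 h5)
        · rw [mul_comm, pow_mul, hwp, one_pow]
    · exact noSP_of_root hF h4 hna hpr hp2 e hwp hw1 hwq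
  · exact noSP_coprime hF hn h32 hna hpr hp2 ((Nat.Prime.coprime_iff_not_dvd hp.out).2 hpq) e hcyc

theorem noSP_psl (hp2 : p ≠ 2) (hpr : p ≠ r) (hna : ¬ IsMulCommutative G) (hG : IsPSLChar r G)
    (hcyc : ¬ ∀ P : Sylow p G, IsCyclic P) : NoSP p G ∨ (p = 3 ∧ ∃ (F : Type) (_ : Field F) (_ : Fintype F),
      Fintype.card F = 4 ∧ Nonempty (G ≃* Matrix.ProjectiveSpecialLinearGroup (Fin 3) F)) := by
  obtain ⟨F, _, _, _, n, hn, h4, ⟨e⟩⟩ := hG
  by_cases hne : p = 3 ∧ n = 3 ∧ Fintype.card F = 4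
  · obtain ⟨h1, h2, h3⟩ := hne
    subst h2
    exact Or.inr ⟨h1, F, inferInstance, inferInstance, h3, ⟨e⟩⟩
  · exact Or.inl (LinAll.noSP_psl hp2 hpr hn h4 hna e hcyc hne)

end Cfsg.Agent.H666.UniRow
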