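import Mathlib
import Cfsg.Prelude.Def_Classification2
import Cfsg.Prelude.Def_Sporadic
import Cfsg.Prelude.Def_Exceptional
import Cfsg.Agent.H666.ExcRow
import Cfsg.Agent.H666.ExcThree
import Cfsg.Agent.H666.TwF
import Cfsg.Agent.H666.ClsRow
import Cfsg.Agent.H666.UniRow
import Cfsg.Agent.H666.AltRow
import Cfsg.Agent.H818.StrP.Own
import Cfsg.Agent.H469.RowRank
import Cfsg.Agent.NotCT.Orders
import Cfsg.Agent.S1069

/-!
# Simple groups with noncyclic TI Sylow `p`-subgroups, `p` odd (helper666)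

* `Concl p G` : the list of S4749;
* `main` : the list for `p` odd and known simple groups, from the sporadic rows.
-/

set_option autoImplicit false

namespace Cfsg.Agent.H666.Assem

open Subgroup Cfsg Cfsg.Agent.H666.TI Cfsg.Agent.H818.StrP

universe u

/-- the list -/
def Concl (p : ℕ) (G : Type*) [Group G] : Prop :=
  (∃ (F : Type) (_ : Field F) (_ : Fintype F) (n : ℕ), 2 ≤ n ∧ Fintype.card F = p ^ n ∧ Nonempty (G ≃* Matrix.ProjectiveSpecialLinearGroup (Fin 2) F)) ∨ (∃ (F : Type) (_ : Field F) (_ : Fintype F) (n : ℕ), 1 ≤ n ∧ Fintype.card F = (p ^ n) ^ 2 ∧ Nonempty (G ≃* Cfsg.PSU 3 F (p ^ n))) ∨ (p = 2 ∧ Cfsg.IsSuzuki G) ∨ (p = 3 ∧ (Cfsg.IsRee G ∨ (∃ (F : Type) (_ : Field F) (_ : Fintype F), Fintype.card F = 4 ∧ Nonempty (G ≃* Matrix.ProjectiveSpecialLinearGroup (Fin 3) F)) ∨ Cfsg.IsM11 G)) ∨ (p = 5 ∧ (Cfsg.IsTits G ∨ Cfsg.IsMcL G)) ∨ (p = 11 ∧ Cfsg.IsJ4 G)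

/-- the sporadic list -/
def SporList (p : ℕ) (G : Type*) [Group G] : Prop :=
  (p = 3 ∧ Spor.IsoM11 G) ∨ (p = 5 ∧ (Lie.IsoTits G ∨ Spor.IsoMcL G)) ∨ (p = 11 ∧ Spor.IsoJ4 G)

theorem exists_charP (F : Type) [Field F] [Fintype F] : ∃ r : ℕ, Fact r.Prime ∧ CharP F r := by
  obtain ⟨r, hr⟩ := CharP.exists F
  exact ⟨r, ⟨CharP.char_is_prime F r⟩, hr⟩

variable {G : Type u} [Group G] [Finite G] [IsSimpleGroup G] {p : ℕ} [hp : Fact p.Prime]

theorem isRee (h : Lie.IsoRee G) : IsRee G := by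
  obtain ⟨K, _, _, m, hm, hK, ⟨e⟩⟩ := h
  refine ⟨inferInstance, m, hm, ?_⟩
  rw [Nat.card_congr e.toEquiv, Cfsg.Agent.S1069.result hK]
  ring

theorem of_spor (h : SporList p G) : Concl p G := by
  rcases h with ⟨h1, h2⟩ | ⟨h1, h2 | h2⟩ | ⟨h1, h2⟩
  · exact Or.inr (Or.inr (Or.inr (Or.inl ⟨h1, Or.inr (Or.inr ⟨inferInstance, NotCT.Orders.m11 h2⟩)⟩)))
  · exact Or.inr (Or.inr (Or.inr (Or.inr (Or.inl ⟨h1, Or.inl ⟨inferInstance, NotCT.Orders.tits h2⟩⟩))))
  · exact Or.inr (Or.inr (Or.inr (Or.inr (Or.inl ⟨h1, Or.inr ⟨inferInstance, NotCT.Orders.mcl h2⟩⟩))))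
  · exact Or.inr (Or.inr (Or.inr (Or.inr (Or.inr ⟨h1, inferInstance, NotCT.Orders.j4 h2⟩))))

/-- own characteristic -/
theorem of_own (hp2 : p ≠ 2) (hno : ¬ NoSP p G) (hcyc : ¬ ∀ P : Sylow p G, IsCyclic ↥P) (hG : IsLieTypeChar p G) :
    Concl p G := by
  rcases Own.own hp2 hG with h | h | h | h
  · exact absurd h hno
  · obtain ⟨F, _, _, _, ⟨e⟩⟩ := h
    obtain ⟨n, -, hn⟩ := FiniteField.card F p
    rcases Nat.lt_or_ge (n : ℕ) 2 with h2 | h2
    · exfalso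
      have hn1 : (n : ℕ) = 1 := by
        have := n.pos
        omega
      rw [hn1, pow_one] at hn
      apply hcyc
      intro P
      refine H469.sylow_congr e (fun Q => H469.isCyclic_of_card ?_ Q) P
      intro hd
      have h3 := Cfsg.Agent.ClassicalGeometry.PSL2Basic.card_PSL2_gcd (F := F)
      have h4 : p ^ 2 ∣ p * (p ^ 2 - 1) := by
        rw [hn] at h3
        rw [← h3]
        exact hd.mul_right _
      rw [pow_two] at h4
      have h5 : p ∣ p * p - 1 := (Nat.mul_dvd_mul_iff_left hp.out.pos).mp h4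
      have h6 : 1 ≤ p * p := Nat.mul_pos hp.out.pos hp.out.pos
      have h7 : p ∣ 1 := by
        have h8 := Nat.dvd_sub (dvd_mul_right p p) h5
        rwa [show p * p - (p * p - 1) = 1 by omega] at h8
      exact hp.out.one_lt.ne' (Nat.dvd_one.mp h7)
    · exact Or.inl ⟨F, inferInstance, inferInstance, n, h2, hn, ⟨e⟩⟩
  · obtain ⟨F, _, _, n, hn, hF, ⟨e⟩⟩ := h
    refine Or.inr (Or.inl ⟨F, inferInstance, inferInstance, n, hn, ?_, ⟨e⟩⟩)
    rw [hF, ← pow_mul, mul_comm]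
  · exact Or.inr (Or.inr (Or.inr (Or.inl ⟨h.1, Or.inl (isRee h.2)⟩)))

theorem main (hna : ¬ IsMulCommutative G) (hG : IsKnownSimple' G) (hp2 : p ≠ 2) (hTI : IsTI p G) (P : Sylow p G)
    (hnc : ¬ IsCyclic ↥(P : Subgroup G)) (hspor : IsSporadicGroup G ∨ Lie.IsoTits G → SporList p G) : Concl p G := by
  have hc := Link.exists_ne_comm hna
  have hP1 : (P : Subgroup G) ≠ ⊥ := by
    intro h
    apply hnc
    rw [h]
    infer_instance
  have hno : ¬ NoSP p G := Link.not_noSP hna hTI P.isPGroup' hP1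
  have hcyc : ¬ ∀ P : Sylow p G, IsCyclic ↥P := fun h => hnc (h P)
  have hnc' : ∃ P : Subgroup G, IsPGroup p P ∧ ¬ IsCyclic P := ⟨P, P.isPGroup', hnc⟩
  obtain ⟨E, -, hE2, hEc, hEe⟩ := H469.exists_sq hp2 P.isPGroup' hnc
  have hE : IsElementaryAbelian p E := ⟨⟨⟨fun a b => Subtype.ext (hEc a a.2 b b.2)⟩⟩, hEe⟩
  have own := of_own hp2 hno hcyc
  rcases hG with hG | hG | hG | hG | hG | hG | hG | hG | hG | hG
  · exfalso
    apply hna
    have h1 : (Nat.card G).Prime := hG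
    have : Fact (Nat.card G).Prime := ⟨h1⟩
    have h2 : IsCyclic G := isCyclic_of_prime_card (p := Nat.card G) rfl
    obtain ⟨g, hg⟩ := h2.exists_generator
    refine ⟨⟨fun a b => ?_⟩⟩
    obtain ⟨i, rfl⟩ := hg a
    obtain ⟨j, rfl⟩ := hg b
    exact ((Commute.refl g).zpow_zpow i j).eq
  · rcases AltRow.row_alt hp2 hG hTI hcyc with h | ⟨h3, F, _, _, hF, he⟩
    · exact absurd h hno
    · exact Or.inl ⟨F, inferInstance, inferInstance, 2, le_rfl, by rw [hF, h3]; norm_num, he⟩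
  · obtain ⟨F, i1, i2, n, hn, h4, he⟩ := hG
    obtain ⟨r, hr, hrF⟩ := exists_charP F
    have hG' : IsPSLChar r G := ⟨F, i1, i2, hrF, n, hn, h4, he⟩
    by_cases hpr : p = r
    · subst hpr
      exact own (Or.inl hG')
    · rcases UniRow.noSP_psl hp2 hpr hna hG' hcyc with h | ⟨h3, h⟩
      · exact absurd h hno
      · exact Or.inr (Or.inr (Or.inr (Or.inl ⟨h3, Or.inr (Or.inl h)⟩)))
  · obtain ⟨F, i1, i2, m, hm, h4, he⟩ := hG
    obtain ⟨r, hr, hrF⟩ := exists_charP F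
    have hG' : IsPSpChar r G := ⟨F, i1, i2, hrF, m, hm, h4, he⟩
    by_cases hpr : p = r
    · subst hpr
      exact own (Or.inr (Or.inl hG'))
    · exact absurd (ClsRow.noSP_class hp2 hpr hc (Or.inl hG') hTI hnc') hno
  · obtain ⟨F, i1, i2, n, q, hF, hn, h4, he⟩ := hG
    obtain ⟨r, hr, hrF⟩ := exists_charP F
    have hG' : IsPSUChar r G := ⟨F, i1, i2, hrF, n, q, hF, hn, h4, he⟩
    by_cases hpr : p = r
    · subst hpr
      exact own (Or.inr (Or.inr (Or.inl hG')))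
    · exact absurd (UniRow.noSP_psu hp2 hpr hna hG' hTI hcyc) hno
  · obtain ⟨F, i1, i2, m, hm, ho, he⟩ := hG
    obtain ⟨r, hr, hrF⟩ := exists_charP F
    have hG' : IsPOmegaOddChar r G := ⟨F, i1, i2, hrF, m, hm, ho, he⟩
    by_cases hpr : p = r
    · subst hpr
      exact own (Or.inr (Or.inr (Or.inr (Or.inl hG'))))
    · exact absurd (ClsRow.noSP_class hp2 hpr hc (Or.inr (Or.inl hG')) hTI hnc') hno
  · obtain ⟨F, i1, i2, m, hm, he⟩ := hG
    obtain ⟨r, hr, hrF⟩ := exists_charP F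
    have hG' : IsPOmegaPlusChar r G := ⟨F, i1, i2, hrF, m, hm, he⟩
    by_cases hpr : p = r
    · subst hpr
      exact own (Or.inr (Or.inr (Or.inr (Or.inr (Or.inl hG')))))
    · exact absurd (ClsRow.noSP_class hp2 hpr hc (Or.inr (Or.inr (Or.inl hG'))) hTI hnc') hno
  · obtain ⟨F, i1, i2, m, a, b, hm, hab, he⟩ := hG
    obtain ⟨r, hr, hrF⟩ := exists_charP F
    have hG' : IsPOmegaMinusChar r G := ⟨F, i1, i2, hrF, m, a, b, hm, hab, he⟩
    by_cases hpr : p = r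
    · subst hpr
      exact own (Or.inr (Or.inr (Or.inr (Or.inr (Or.inr (Or.inl hG'))))))
    · exact absurd (ClsRow.noSP_class hp2 hpr hc (Or.inr (Or.inr (Or.inr hG'))) hTI hnc') hno
  · have exc : ∀ r : ℕ, Fact r.Prime → (IsExceptionalChevChar r G ∨ IsTwistedE6D4Char r G) → Concl p G := by
      intro r hr h
      by_cases hpr : p = r
      · subst hpr
        rcases h with h | h
        · exact own (Or.inr (Or.inr (Or.inr (Or.inr (Or.inr (Or.inr (Or.inl h)))))))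
        · exact own (Or.inr (Or.inr (Or.inr (Or.inr (Or.inr (Or.inr (Or.inr (Or.inl h))))))))
      · exfalso
        by_cases h23 : r = 2 ∧ p = 3
        · obtain ⟨h2, h3⟩ := h23
          subst h2 h3
          exact hno (ExcThree.noSP_exc_three hna h hTI)
        · exact hno (ExcRow.noSP_exc hp2 hpr (fun h2 h3 => h23 ⟨h2, h3⟩) hna h hTI hE hE2)
    rcases hG with hG | hG | hG | hG | hG | hG | hG | hG | hG | hG | hG
    · obtain ⟨F, hF1, hF2, hF3, he⟩ := hG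
      obtain ⟨r, hr, hrF⟩ := exists_charP F
      exact exc r hr (Or.inl ⟨F, hF1, hF2, hrF, Or.inl ⟨hF3, he⟩⟩)
    · obtain ⟨F, hF1, hF2, he⟩ := hG
      obtain ⟨r, hr, hrF⟩ := exists_charP F
      exact exc r hr (Or.inl ⟨F, hF1, hF2, hrF, Or.inr (Or.inl he)⟩)
    · obtain ⟨F, hF1, hF2, he⟩ := hG
      obtain ⟨r, hr, hrF⟩ := exists_charP F
      exact exc r hr (Or.inl ⟨F, hF1, hF2, hrF, Or.inr (Or.inr (Or.inl he))⟩)
    · obtain ⟨F, hF1, hF2, he⟩ := hG
      obtain ⟨r, hr, hrF⟩ := exists_charP F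
      exact exc r hr (Or.inl ⟨F, hF1, hF2, hrF, Or.inr (Or.inr (Or.inr (Or.inl he)))⟩)
    · obtain ⟨F, hF1, hF2, he⟩ := hG
      obtain ⟨r, hr, hrF⟩ := exists_charP F
      exact exc r hr (Or.inl ⟨F, hF1, hF2, hrF, Or.inr (Or.inr (Or.inr (Or.inr he)))⟩)
    · obtain ⟨F, hF1, hF2, q, hq, hF3, he⟩ := hG
      obtain ⟨r, hr, hrF⟩ := exists_charP F
      exact exc r hr (Or.inr ⟨F, hF1, hF2, hrF, q, hq, Or.inl ⟨hF3, he⟩⟩)
    · obtain ⟨F, hF1, hF2, q, hq, hF3, he⟩ := hG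
      obtain ⟨r, hr, hrF⟩ := exists_charP F
      exact exc r hr (Or.inr ⟨F, hF1, hF2, hrF, q, hq, Or.inr ⟨hF3, he⟩⟩)
    · exact absurd (H469.RowRank.row_suzuki hp2 hG P) hnc
    · by_cases hp3 : p = 3
      · exact Or.inr (Or.inr (Or.inr (Or.inl ⟨hp3, Or.inl (isRee hG)⟩)))
      · exfalso
        obtain ⟨K, _, _, m, hm, hK, ⟨e⟩⟩ := hG
        have h3 : 3 < p := by
          have := hp.out.two_le
          omega
        exact hnc (H469.sylow_congr e (Cfsg.Agent.S1156.result hm hK h3) P)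
    · exfalso
      obtain ⟨K, _, _, m, hm, hK, ⟨e⟩⟩ := hG
      have hE' : IsElementaryAbelian p (E.map e.toMonoidHom) := by
        refine ⟨⟨⟨?_⟩⟩, ?_⟩
        · rintro ⟨_, a, ha, rfl⟩ ⟨_, b, hb, rfl⟩
          apply Subtype.ext
          show e a * e b = e b * e a
          rw [← map_mul, hEc a ha b hb, map_mul]
        · rintro _ ⟨a, ha, rfl⟩
          rw [← map_pow, hEe a ha, map_one]
      have : Finite ↥(Lie.twistedF4 K (2 ^ m)) := Finite.of_equiv _ e.toEquiv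
      exact hno (noSP_congr e.symm (TwF.noSP_twF4 hm hK hp2 (hTI.congr e) hE' (by
        rw [Subgroup.card_map_of_injective e.injective, hE2])))
    · exact of_spor (hspor (Or.inr hG))
  · exact of_spor (hspor (Or.inl hG))

end Cfsg.Agent.H666.Assem
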