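import Cfsg.Agent.H666.SporBase
import Cfsg.Agent.H666.ExcRow
import Cfsg.Agent.H469.NBr
import Cfsg.Agent.H13.NoSPMOf
import Cfsg.Agent.H998.StrP.PureRows
import Cfsg.Agent.H792.Sp.BFive
import Cfsg.Agent.H573.Spor.MSeven
import Cfsg.Agent.H850.MonSub
import Cfsg.Agent.H850.MonHN
import Cfsg.Agent.S1701
import Cfsg.Agent.S1070

/-!
# The Baby Monster and the Monster: Sylow `p`-subgroups are not TI, `p = 3, 5, 7` (helper666)

* `isTI_of_surj` : TI Sylow subgroups go down modulo central subgroups of order prime to `p`;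
* `b_3`, `b_5` (from `HN`), `b_7` (from `²E₆(2)`), `m_3`, `m_5` (from `HN`), `m_7` (`C(x)/⟨x⟩ ≅ He`).
-/

set_option autoImplicit false

namespace Cfsg.Agent.H666.SporBM

open Subgroup Cfsg Cfsg.Agent.H666.TI Cfsg.Agent.H666.SporBase

section Surj

variable {p : ℕ} [hp : Fact p.Prime] {Y K : Type*} [Group Y] [Group K]

omit hp in
theorem mul_pElt_of_comm {x y : Y} (hx : PElt p x) (hy : PElt p y) (hc : Commute x y) : PElt p (x * y) := by
  obtain ⟨k, hk⟩ := hx
  obtain ⟨l, hl⟩ := hy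
  refine ⟨k + l, ?_⟩
  rw [hc.mul_pow, pow_add, pow_mul, hk, one_pow, one_mul, mul_comm (p ^ k), pow_mul, hl, one_pow]

/-- equal images: equal `p`-elements -/
theorem eq_of_map_eq (π : Y →* K) (hz : π.ker ≤ center Y) (hk : ¬ p ∣ Nat.card π.ker) {a b : Y}
    (ha : PElt p a) (hb : PElt p b) (h : π a = π b) : a = b := by
  have h1 : b⁻¹ * a ∈ π.ker := by rw [MonoidHom.mem_ker, map_mul, map_inv, h, inv_mul_cancel]
  have h2 := mem_center_iff.1 (hz h1)
  have h3 : Commute b⁻¹ a := by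
    have h4 := h2 b
    have h5 : b * (b⁻¹ * a) = a := by group
    rw [h5] at h4
    show b⁻¹ * a = a * b⁻¹
    calc b⁻¹ * a = (b⁻¹ * a * b) * b⁻¹ := by group
      _ = a * b⁻¹ := by rw [← h4]
  have h4 : PElt p (b⁻¹ * a) := mul_pElt_of_comm hb.inv ha h3
  have h5 : (b⁻¹ * a) ^ Nat.card π.ker = 1 := by
    have : (⟨_, h1⟩ : π.ker) ^ Nat.card π.ker = 1 := pow_card_eq_one'
    exact congrArg Subtype.val this
  have h6 := h4.eq_one h5 hk
  exact (inv_mul_eq_one.1 h6).symm

variable [Finite Y]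

/-- a `p`-element of the image lifts to a `p`-element -/
theorem exists_pElt (π : Y →* K) (hs : Function.Surjective π) {k : K} (hk : PElt p k) : ∃ y : Y, PElt p y ∧ π y = k := by
  obtain ⟨c, hc⟩ := hs k
  obtain ⟨a, m, hm, hn⟩ := Nat.exists_eq_pow_mul_and_not_dvd (orderOf_pos c).ne' p hp.out.ne_one
  obtain ⟨l, hl⟩ := hk
  have hm0 : m ≠ 0 := by rintro rfl; exact hm (dvd_zero p)
  have hco : Nat.Coprime (p ^ (l + a)) m := Nat.Coprime.pow_left _ ((Nat.Prime.coprime_iff_not_dvd hp.out).2 hm)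
  obtain ⟨u, hu1, hu2⟩ := Nat.chineseRemainder hco 1 0
  obtain ⟨s, hs'⟩ := (Nat.modEq_zero_iff_dvd).1 hu2
  refine ⟨c ^ u, ⟨a, ?_⟩, ?_⟩
  · rw [← pow_mul, hs', show m * s * p ^ a = p ^ a * m * s by ring, ← hn, pow_mul, pow_orderOf_eq_one, one_pow]
  · rw [map_pow, hc]
    have h1 : k ^ p ^ (l + a) = 1 := by rw [pow_add, pow_mul, hl, one_pow]
    have h2 : u ≡ 1 [MOD orderOf k] := hu1.of_dvd (orderOf_dvd_of_pow_eq_one h1)
    have h3 := (pow_eq_pow_iff_modEq (x := k)).2 h2
    rwa [pow_one] at h3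

/-- **TI Sylow subgroups modulo a central subgroup of order prime to `p`.** -/
theorem isTI_of_surj (h : IsTI p Y) (π : Y →* K) (hs : Function.Surjective π) (hz : π.ker ≤ center Y)
    (hk : ¬ p ∣ Nat.card π.ker) : IsTI p K := by
  have : Finite K := Finite.of_surjective π hs
  refine isTI_of_sylow ?_
  intro P Q x hxP hxQ hx1
  obtain ⟨S, hS⟩ : ∃ S : Sylow p Y, S.mapSurjective hs = P := Sylow.mapSurjective_surjective hs p P
  obtain ⟨T, hT⟩ : ∃ T : Sylow p Y, T.mapSurjective hs = Q := Sylow.mapSurjective_surjective hs p Q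
  obtain ⟨a, ha, hax⟩ : ∃ a ∈ (S : Subgroup Y), π a = x := by
    have h1 : x ∈ ((S.mapSurjective hs : Sylow p K) : Subgroup K) := by rw [hS]; exact hxP
    exact h1
  obtain ⟨b, hb, hbx⟩ : ∃ b ∈ (T : Subgroup Y), π b = x := by
    have h1 : x ∈ ((T.mapSurjective hs : Sylow p K) : Subgroup K) := by rw [hT]; exact hxQ
    exact h1
  have h1 : a = b := eq_of_map_eq π hz hk (pElt_of_mem S.isPGroup' ha) (pElt_of_mem T.isPGroup' hb) (hax.trans hbx.symm)
  have h2 : S = T := by
    refine h.sylow_eq (x := a) ha (h1 ▸ hb) ?_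
    rintro rfl
    exact hx1 (by rw [← hax, map_one])
  rw [← hS, ← hT, h2]

/-- Sylow subgroups of the quotient are isomorphic to those of the group. -/
theorem cyclic_of_map [Finite K] (π : Y →* K) (hs : Function.Surjective π) (hz : π.ker ≤ center Y)
    (hk : ¬ p ∣ Nat.card π.ker) (h : ∀ P : Sylow p K, IsCyclic (P : Subgroup K)) (S : Sylow p Y) :
    IsCyclic (S : Subgroup Y) := by
  have h1 := h (S.mapSurjective hs)
  let f : (S : Subgroup Y) →* ((S.mapSurjective hs : Sylow p K) : Subgroup K) :=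
    (π.comp (S : Subgroup Y).subtype).codRestrict _ (fun s => ⟨s, s.2, rfl⟩)
  refine isCyclic_of_injective f ?_
  intro a b hab
  apply Subtype.ext
  exact eq_of_map_eq π hz hk (pElt_of_mem S.isPGroup' a.2) (pElt_of_mem S.isPGroup' b.2) (congrArg Subtype.val hab)

end Surj

theorem noncomm_of_not_prime {G : Type*} [Group G] [Finite G] [IsSimpleGroup G] (h : ¬ (Nat.card G).Prime) :
    ¬ IsMulCommutative G := by
  intro hc
  let i : CommGroup G := { (inferInstance : Group G) with mul_comm := fun a b => hc.is_comm.comm a b }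
  exact h (IsSimpleGroup.prime_card (α := G))

/-! ### Harada-Norton -/

theorem hn_card : Nat.card Spor.HN = 273030912000000 := S1701.result.2

theorem hn_noncomm : ¬ IsMulCommutative Spor.HN := by
  have hfin : Finite Spor.HN := Nat.finite_of_card_ne_zero (by rw [hn_card]; norm_num)
  have hs : IsSimpleGroup Spor.HN := S1701.result.1
  refine noncomm_of_not_prime ?_
  rw [hn_card]
  norm_num

theorem not_ti_of_hn {G : Type*} [Group G] (f : Spor.HN →* G) (hf : Function.Injective f) : ¬ IsTI 5 G := by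
  have hfin : Finite Spor.HN := Nat.finite_of_card_ne_zero (by rw [hn_card]; norm_num)
  have hs : IsSimpleGroup Spor.HN := S1701.result.1
  have : Fact (Nat.Prime 5) := ⟨by norm_num⟩
  exact not_ti_of_hom_nosp hn_noncomm (by rw [hn_card]; norm_num) (H998.StrP.hn_5 hn_card) f hf

theorem b_5 {G : Type*} [Group G] (h : Spor.IsoB G) : ¬ IsTI 5 G := by
  obtain ⟨e⟩ := h
  obtain ⟨f, hf⟩ := H792.SpBFive.exists_hom
  exact fun hTI => not_ti_of_hn f hf (hTI.congr e)

theorem m_5 {G : Type*} [Group G] (h : Spor.IsoM G) : ¬ IsTI 5 G := by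
  obtain ⟨e⟩ := h
  obtain ⟨T, hT⟩ := Cfsg.Agent.H850.MonHN.part Cfsg.Agent.MonsterX.InstanceFinal.pack
    Cfsg.Agent.MonsterX.Instance.mTrans Cfsg.Agent.S1701.result
  obtain ⟨H, ⟨e'⟩⟩ := Cfsg.Agent.H850.MonSub.exists_sub T hT
  exact fun hTI => not_ti_of_hn (H.subtype.comp e'.symm.toMonoidHom)
    (H.subtype_injective.comp e'.symm.injective) (hTI.congr e)

theorem b_3 {G : Type*} [Group G] [Finite G] [IsSimpleGroup G] (hna : ¬ IsMulCommutative G) (h : Spor.IsoB G) :
    ¬ IsTI 3 G := by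
  have : Fact (Nat.Prime 3) := ⟨by norm_num⟩
  have hc : Nat.card G = 4154781481226426191177580544000000 := by
    obtain ⟨e⟩ := h
    rw [Nat.card_congr e.toEquiv, BM.KHAll.card_B]
  exact not_ti_of_nosp hna (by rw [hc]; norm_num) (H998.StrP.b_3 hc)

theorem m_3 {G : Type*} [Group G] [Finite G] [IsSimpleGroup G] (hna : ¬ IsMulCommutative G) (h : Spor.IsoM G) :
    ¬ IsTI 3 G := by
  have : Fact (Nat.Prime 3) := ⟨by norm_num⟩
  have : Finite Spor.BabyMonster := Nat.finite_of_card_ne_zero (by rw [BM.KHAll.card_B]; norm_num)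
  have hc : Nat.card G = 808017424794512875886459904961710757005754368000000000 := by
    obtain ⟨e⟩ := h
    obtain ⟨e'⟩ := MonsterP.Equiv.equiv
    rw [Nat.card_congr (e.trans e').toEquiv]
    exact H573.Spor.Monster.card_model
  exact not_ti_of_nosp hna (by rw [hc]; norm_num) (H13.NoSPMOf.nosp_m_3 (H998.StrP.b_3 BM.KHAll.card_B) h)

open Cfsg.Agent.LThreeMB (XX) in
theorem m_7 {G : Type*} [Group G] (h : Spor.IsoM G) : ¬ IsTI 7 G := by
  obtain ⟨e⟩ := h
  obtain ⟨e'⟩ := MonsterP.Equiv.equiv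
  have : Fact (Nat.Prime 7) := ⟨by norm_num⟩
  have hfin : Finite ↥Cfsg.Agent.MonsterX.InstData.M.G :=
    Nat.finite_of_card_ne_zero (by rw [H573.Spor.Monster.card_model]; norm_num)
  obtain ⟨x, hx, ⟨f⟩⟩ := H573.Spor.Monster.exists_he
  have hHe : Nat.card Cfsg.Spor.He = 4030387200 := Cfsg.Agent.S1695.result.2
  have hHs : IsSimpleGroup Cfsg.Spor.He := Cfsg.Agent.S1695.result.1
  have hHf : Finite Cfsg.Spor.He := Nat.finite_of_card_ne_zero (by rw [hHe]; norm_num)
  have h1 : ¬ IsTI 7 ↥Cfsg.Agent.MonsterX.InstData.M.G :=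
    not_ti_of_section hx (noncomm_of_not_prime (by rw [hHe]; norm_num)) (by rw [hHe]; norm_num)
      (f.toMonoidHom.comp (QuotientGroup.mk' _)) (f.surjective.comp (QuotientGroup.mk'_surjective _))
  exact fun hTI => h1 (hTI.congr (e.trans e'))

/-! ### The Baby Monster, `p = 7` -/

theorem card_sylow_seven {X : Type*} [Group X] [Finite X] [Fact (Nat.Prime 7)] {m : ℕ} (hX : Nat.card X = 49 * m)
    (hm : ¬ 7 ∣ m) (S : Sylow 7 X) : Nat.card (S : Subgroup X) = 49 := by
  have h1 : Nat.card X = 7 ^ 2 * m := by rw [hX]; norm_num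
  rw [S.card_eq_multiplicity, h1]
  have hm0 : m ≠ 0 := by rintro rfl; exact hm (dvd_zero 7)
  rw [Nat.factorization_mul (by norm_num) hm0, Finsupp.add_apply, Nat.factorization_eq_zero_of_not_dvd hm,
    Nat.Prime.factorization_pow Fact.out, Finsupp.single_eq_same]
  norm_num

theorem b_7 {G : Type*} [Group G] (h : Spor.IsoB G) (P : Sylow 7 G) (hnc : ¬ IsCyclic ↥(P : Subgroup G)) :
    ¬ IsTI 7 G := by
  intro hTI
  have h7 : Fact (Nat.Prime 7) := ⟨by norm_num⟩
  have h2 : Fact (Nat.Prime 2) := ⟨Nat.prime_two⟩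
  obtain ⟨e⟩ := h
  have hfB : Finite Spor.BabyMonster := Nat.finite_of_card_ne_zero (by rw [BM.KHAll.card_B]; norm_num)
  have hfG : Finite G := Finite.of_equiv _ e.symm.toEquiv
  let K := GaloisField 2 2
  let i : Fintype K := Fintype.ofFinite K
  have hK : Fintype.card K = 4 := by
    rw [← Nat.card_eq_fintype_card, GaloisField.card 2 2 (by norm_num)]
    norm_num
  have hE := BM.HBFinal.card_E K hK
  have hfE : Finite ↥(Lie.twistedE6 K 2) := Nat.finite_of_card_ne_zero (by rw [hE]; norm_num)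
  have := H66.TwESixCover.finite_Y
  obtain ⟨π, hs, hz, hk⟩ := H13.NoSPBOf.exists_proj K hK
  have hTB : IsTI 7 Spor.BabyMonster := hTI.congr e
  have hk7 : ¬ 7 ∣ Nat.card π.ker := by rw [hk]; norm_num
  have hTY : IsTI 7 H66.TwESixCover.Y := hTB.subgroup (BM.FactsB.HB BM.StageBFinalOf.gB)
  have hTE := isTI_of_surj hTY π hs hz hk7
  have hsE : IsSimpleGroup ↥(Lie.twistedE6 K 2) :=
    (S1070.result (K := K) (q := 2) Nat.prime_two.isPrimePow (by rw [hK]; norm_num)).1
  have hnaE : ¬ IsMulCommutative ↥(Lie.twistedE6 K 2) := noncomm_of_not_prime (by rw [hE]; norm_num)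
  -- a noncyclic Sylow subgroup
  obtain ⟨Q, hQ⟩ : ∃ Q : Sylow 7 ↥(Lie.twistedE6 K 2), ¬ IsCyclic ↥(Q : Subgroup ↥(Lie.twistedE6 K 2)) := by
    by_contra hcon
    push Not at hcon
    obtain ⟨S⟩ : Nonempty (Sylow 7 H66.TwESixCover.Y) := inferInstance
    have h1 := cyclic_of_map π hs hz hk7 hcon S
    have h3 : Nat.card (S : Subgroup H66.TwESixCover.Y) = 49 := card_sylow_seven (m := 3123774680970402201600)
      (by rw [H66.TwESixCover.card_Y]) (by norm_num) S
    let S' : Subgroup Spor.BabyMonster := (S : Subgroup H66.TwESixCover.Y).map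
      (BM.FactsB.HB BM.StageBFinalOf.gB).subtype
    have h4 : Nat.card S' = 49 := by
      rw [← h3]
      exact Subgroup.card_map_of_injective (Subgroup.subtype_injective _)
    have h5 : IsCyclic S' := isCyclic_of_surjective
      ((BM.FactsB.HB BM.StageBFinalOf.gB).subtype.subgroupMap (S : Subgroup H66.TwESixCover.Y))
      ((BM.FactsB.HB BM.StageBFinalOf.gB).subtype.subgroupMap_surjective _)
    obtain ⟨T, hT⟩ := (S.isPGroup'.map (BM.FactsB.HB BM.StageBFinalOf.gB).subtype).exists_le_sylow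
    have h6 : Nat.card (T : Subgroup Spor.BabyMonster) = 49 :=
      card_sylow_seven (m := 84791458800539310024032256000000) (by rw [BM.KHAll.card_B]) (by norm_num) T
    have h7' : S' = (T : Subgroup Spor.BabyMonster) := Subgroup.eq_of_le_of_card_ge hT (by rw [h6, ← h4])
    have h8 : IsCyclic (T : Subgroup Spor.BabyMonster) := h7' ▸ h5
    obtain ⟨T', hT'⟩ : ∃ T' : Sylow 7 Spor.BabyMonster, T' = P.mapSurjective (f := e.toMonoidHom) e.surjective :=
      ⟨_, rfl⟩
    have h9 : IsCyclic (T' : Subgroup Spor.BabyMonster) :=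
      isCyclic_of_surjective (Sylow.equiv T T').toMonoidHom (Sylow.equiv T T').surjective
    apply hnc
    let f : (P : Subgroup G) →* (T' : Subgroup Spor.BabyMonster) :=
      (e.toMonoidHom.comp (P : Subgroup G).subtype).codRestrict _ (fun s => by
        rw [hT']
        exact ⟨s, s.2, rfl⟩)
    refine isCyclic_of_injective f ?_
    intro a b hab
    exact Subtype.ext (e.injective (congrArg Subtype.val hab))
  obtain ⟨E, -, hE2, hEc, hEe⟩ := H469.exists_sq (by norm_num) Q.isPGroup' hQ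
  have hEl : IsElementaryAbelian 7 E := ⟨⟨⟨fun a b => Subtype.ext (hEc a a.2 b b.2)⟩⟩, hEe⟩
  have hno := ExcRow.noSP_exc (r := 2) (by norm_num) (by norm_num) (fun _ => by norm_num) hnaE
    (Or.inr ⟨K, inferInstance, i, inferInstance, 2, Nat.prime_two.isPrimePow,
      Or.inl ⟨by rw [hK]; norm_num, ⟨MulEquiv.refl _⟩⟩⟩) hTE hEl hE2
  exact not_ti_of_nosp hnaE (by rw [hE]; norm_num) hno hTE

end Cfsg.Agent.H666.SporBM
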