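import Cfsg.Agent.H666.Link
import Cfsg.Agent.H998.StrP.Basic
import Cfsg.Agent.S0058

/-!
# Sporadic groups: criteria against TI Sylow `p`-subgroups (helper666)

* `not_ti_of_three` : `p`-elements `x ≠ 1`, `a`, `b` with `a`, `b ∈ C(x)` and `a b` not a `p`-element;
* `IsTI.card_eq` : a noncyclic abelian `p'`-group `A` centralising an element of order `p`, with `p² ∤ |C(a)|` for
  `1 ≠ a ∈ A` : the Sylow `p`-subgroups have order `p`;
* `not_ti_of_section` : an element `x` of order `p` and a surjective homomorphism of `C(x)` onto a simple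
  group of order divisible by `p`;
* `not_ti_of_nosp`, `not_ti_of_hom_nosp` : from the absence of strongly `p`-embedded subgroups.
-/

set_option autoImplicit false

namespace Cfsg.Agent.H666.SporBase

open Subgroup Cfsg Cfsg.Agent.H666.TI

variable {G : Type*} [Group G] {p : ℕ}

/-- what commutes with `1 ≠ x ∈ P` normalises `P` -/
theorem mem_normalizer (h : IsTI p G) [Finite G] [Fact p.Prime] {P : Sylow p G} {x g : G} (hxP : x ∈ P) (hx : x ≠ 1)
    (hc : g * x = x * g) : g ∈ normalizer ((P : Subgroup G) : Set G) := by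
  refine Sylow.smul_eq_iff_mem_normalizer.1 ?_
  refine h.sylow_eq (x := x) ?_ hxP hx
  show x ∈ ((g • P : Sylow p G) : Subgroup G)
  rw [Sylow.coe_subgroup_smul]
  refine ⟨x, hxP, ?_⟩
  show g * x * g⁻¹ = x
  rw [hc, mul_inv_cancel_right]

/-- **Three elements.** -/
theorem not_ti_of_three [hp : Fact p.Prime] {x a b : G} (hx1 : x ≠ 1) (hx : x ^ p = 1) (ha : a ^ p = 1) (hb : b ^ p = 1)
    (hxa : x * a = a * x) (hxb : x * b = b * x) {n : ℕ} (hn : ¬ p ∣ n) (hab : (a * b) ^ n = 1) (hab1 : a * b ≠ 1) :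
    ¬ IsTI p G := by
  intro h
  exact hab1 ((h.mul_pElt hx1 (pElt_of_pow hx) (pElt_of_pow ha) (pElt_of_pow hb) hxa hxb).eq_one hab hn)

/-- **A noncyclic abelian `p'`-group in `C(x)`.** -/
theorem card_eq (h : IsTI p G) [Finite G] [hp : Fact p.Prime] (A : Subgroup G) [IsMulCommutative A] (hA : ¬ IsCyclic A)
    (hpA : ¬ p ∣ Nat.card A) {x : G} (hx : orderOf x = p) (hAx : ∀ a ∈ A, a * x = x * a)
    (hF : ∀ a ∈ A, a ≠ 1 → ¬ p ^ 2 ∣ Nat.card (centralizer ({a} : Set G))) (P : Sylow p G) :
    Nat.card (P : Subgroup G) = p := by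
  obtain ⟨Q, hxQ⟩ := exists_sylow_mem (p := p) (pElt_of_orderOf hx)
  have hx1 : x ≠ 1 := by
    rintro rfl
    rw [orderOf_one] at hx
    exact hp.out.one_lt.ne hx
  have hAQ : A ≤ normalizer ((Q : Subgroup G) : Set G) := fun a ha => mem_normalizer h hxQ hx1 (hAx a ha)
  have hcop : (Nat.card A).Coprime (Nat.card (Q : Subgroup G)) := by
    obtain ⟨k, hk⟩ := IsPGroup.iff_card.1 Q.isPGroup'
    rw [hk]
    exact (Nat.Coprime.pow_left k ((Nat.Prime.coprime_iff_not_dvd hp.out).2 hpA)).symm
  have h1 := S0058.result A (Q : Subgroup G) hA hAQ hcop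
  have h2 : (Q : Subgroup G) ≤ zpowers x := by
    rw [← h1]
    refine iSup_le fun a => iSup_le fun ha => ?_
    obtain ⟨haA, ha1⟩ := ha
    set R := (Q : Subgroup G) ⊓ centralizer ({a} : Set G) with hR
    have hxR : x ∈ R := ⟨hxQ, mem_centralizer_singleton_iff.2 (hAx a haA).symm⟩
    have hRp : IsPGroup p R := Q.isPGroup'.to_le inf_le_left
    obtain ⟨k, hk⟩ := IsPGroup.iff_card.1 hRp
    have hk1 : k ≤ 1 := by
      by_contra hk2
      push Not at hk2
      apply hF a haA ha1
      refine (pow_dvd_pow p hk2).trans ?_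
      rw [← hk]
      exact card_dvd_of_le inf_le_right
    have h3 : zpowers x ≤ R := zpowers_le.2 hxR
    have h4 : Nat.card (zpowers x) = p := by rw [Nat.card_zpowers, hx]
    refine le_of_eq (Subgroup.eq_of_le_of_card_ge h3 ?_).symm
    rw [h4, hk]
    calc p ^ k ≤ p ^ 1 := Nat.pow_le_pow_right hp.out.pos hk1
      _ = p := pow_one p
  have h3 : (Q : Subgroup G) = zpowers x := le_antisymm h2 (zpowers_le.2 hxQ)
  have h4 : Nat.card (P : Subgroup G) = Nat.card (Q : Subgroup G) := by
    rw [P.card_eq_multiplicity, Q.card_eq_multiplicity]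
  rw [h4, h3, Nat.card_zpowers, hx]

/-- The four-group version. -/
theorem not_ti_of_four [Finite G] [hp : Fact p.Prime] (hp2 : p ≠ 2) (hpG : p ^ 2 ∣ Nat.card G) {x u v : G}
    (hx : orderOf x = p) (hu : orderOf u = 2) (hv : orderOf v = 2) (huv : u ≠ v) (hc : u * v = v * u)
    (hux : u * x = x * u) (hvx : v * x = x * v)
    (hF : ∀ a : G, orderOf a = 2 → ¬ p ^ 2 ∣ Nat.card (centralizer ({a} : Set G))) : ¬ IsTI p G := by
  intro h
  have huu : u * u = 1 := by rw [← pow_two, ← hu, pow_orderOf_eq_one]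
  have hvv : v * v = 1 := by rw [← pow_two, ← hv, pow_orderOf_eq_one]
  have hu1 : u ≠ 1 := by rintro rfl; rw [orderOf_one] at hu; omega
  have hv1 : v ≠ 1 := by rintro rfl; rw [orderOf_one] at hv; omega
  let A : Subgroup G :=
    { carrier := {1, u, v, u * v}
      one_mem' := Or.inl rfl
      inv_mem' := by
        rintro a (rfl | rfl | rfl | rfl)
        · exact Or.inl inv_one
        · exact Or.inr (Or.inl (inv_eq_of_mul_eq_one_left huu))
        · exact Or.inr (Or.inr (Or.inl (inv_eq_of_mul_eq_one_left hvv)))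
        · refine Or.inr (Or.inr (Or.inr (inv_eq_of_mul_eq_one_left ?_)))
          calc u * v * (u * v) = u * (v * u) * v := by group
            _ = u * (u * v) * v := by rw [hc]
            _ = (u * u) * (v * v) := by group
            _ = 1 := by rw [huu, hvv, mul_one]
      mul_mem' := by
        have e1 : u * (u * v) = v := by rw [← mul_assoc, huu, one_mul]
        have e2 : v * (u * v) = u := by rw [← mul_assoc, ← hc, mul_assoc, hvv, mul_one]
        have e3 : u * v * u = v := by rw [hc, mul_assoc, huu, mul_one]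
        have e4 : u * v * v = u := by rw [mul_assoc, hvv, mul_one]
        have e5 : u * v * (u * v) = 1 := by rw [← mul_assoc, e3, hvv]
        rintro a b (rfl | rfl | rfl | rfl) (rfl | rfl | rfl | rfl)
        · exact Or.inl (one_mul _)
        · exact Or.inr (Or.inl (one_mul _))
        · exact Or.inr (Or.inr (Or.inl (one_mul _)))
        · exact Or.inr (Or.inr (Or.inr (one_mul _)))
        · exact Or.inr (Or.inl (mul_one _))
        · exact Or.inl huu
        · exact Or.inr (Or.inr (Or.inr rfl))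
        · exact Or.inr (Or.inr (Or.inl e1))
        · exact Or.inr (Or.inr (Or.inl (mul_one _)))
        · exact Or.inr (Or.inr (Or.inr hc.symm))
        · exact Or.inl hvv
        · exact Or.inr (Or.inl e2)
        · exact Or.inr (Or.inr (Or.inr (mul_one _)))
        · exact Or.inr (Or.inr (Or.inl e3))
        · exact Or.inr (Or.inl e4)
        · exact Or.inl e5 }
  have hmem : ∀ {a : G}, a ∈ A → a = 1 ∨ a = u ∨ a = v ∨ a = u * v := fun h => h
  have hsq : ∀ a ∈ A, a * a = 1 := by
    intro a ha
    rcases hmem ha with rfl | rfl | rfl | rfl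
    · exact one_mul 1
    · exact huu
    · exact hvv
    · calc u * v * (u * v) = u * (v * u) * v := by group
        _ = u * (u * v) * v := by rw [hc]
        _ = (u * u) * (v * v) := by group
        _ = 1 := by rw [huu, hvv, mul_one]
  have hcomm : IsMulCommutative A := ⟨⟨fun a b => by
    have h1 := hsq _ a.2
    have h2 := hsq _ b.2
    have h3 := hsq _ (mul_mem a.2 b.2)
    apply Subtype.ext
    show (a : G) * b = b * a
    have h4 : (a : G) * b = ((a : G) * b)⁻¹ := eq_inv_of_mul_eq_one_left h3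
    rw [h4, mul_inv_rev, inv_eq_of_mul_eq_one_left h1, inv_eq_of_mul_eq_one_left h2]⟩⟩
  have hcard : Nat.card A = 4 := by
    have h1 : (A : Set G) = {1, u, v, u * v} := rfl
    have h2 : Nat.card A = ((A : Set G)).ncard := rfl
    rw [h2, h1]
    have hne1 : u * v ≠ 1 := fun h => huv (by
      calc u = u * (v * v) := by rw [hvv, mul_one]
        _ = (u * v) * v := by group
        _ = v := by rw [h, one_mul])
    have hne2 : u * v ≠ u := fun h => hv1 (mul_left_cancel (h.trans (mul_one u).symm))
    have hne3 : u * v ≠ v := fun h => hu1 (mul_right_cancel (h.trans (one_mul v).symm))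
    rw [Set.ncard_insert_of_notMem, Set.ncard_insert_of_notMem, Set.ncard_insert_of_notMem, Set.ncard_singleton]
    · exact fun h => hne3 (Set.mem_singleton_iff.1 h).symm
    · rintro (h | h)
      · exact huv h
      · exact hne2 (Set.mem_singleton_iff.1 h).symm
    · rintro (h | h | h)
      · exact hu1 h.symm
      · exact hv1 h.symm
      · exact hne1 (Set.mem_singleton_iff.1 h).symm
  have hncyc : ¬ IsCyclic A := by
    intro hcyc
    obtain ⟨g, hg⟩ := hcyc.exists_ofOrder_eq_natCard
    have h1 : orderOf g ∣ 2 := orderOf_dvd_of_pow_eq_one (by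
      rw [pow_two]
      exact Subtype.ext (hsq _ g.2))
    rw [hg, hcard] at h1
    exact absurd h1 (by decide)
  have h2 : ¬ p ∣ Nat.card A := by
    rw [hcard, show (4 : ℕ) = 2 ^ 2 by norm_num]
    intro hd
    exact hp2 ((Nat.prime_dvd_prime_iff_eq hp.out Nat.prime_two).1 (hp.out.dvd_of_dvd_pow hd))
  obtain ⟨P⟩ : Nonempty (Sylow p G) := inferInstance
  have h3 : Nat.card (P : Subgroup G) = p := by
    refine card_eq h A hncyc h2 hx ?_ ?_ P
    · intro a ha
      rcases hmem ha with rfl | rfl | rfl | rfl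
      · rw [one_mul, mul_one]
      · exact hux
      · exact hvx
      · rw [mul_assoc, hvx, ← mul_assoc, hux, mul_assoc]
    · intro a ha ha1
      exact hF a (orderOf_eq_prime (by rw [pow_two]; exact hsq a ha) ha1)
  have h4 : p ^ 2 ∣ Nat.card (P : Subgroup G) := by
    rw [P.card_eq_multiplicity]
    exact pow_dvd_pow p ((Nat.Prime.pow_dvd_iff_le_factorization hp.out Nat.card_pos.ne').1 hpG)
  rw [h3] at h4
  have h5 := Nat.le_of_dvd hp.out.pos h4
  have h6 := hp.out.two_le
  nlinarith

/-- **A simple section of `C(x)`.** -/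
theorem not_ti_of_section [hp : Fact p.Prime] {x : G} (hx : orderOf x = p) {K : Type*} [Group K] [Finite K]
    [IsSimpleGroup K] (hna : ¬ IsMulCommutative K) (hpK : p ∣ Nat.card K) [Finite G]
    (π : ↥(centralizer ({x} : Set G)) →* K) (hπ : Function.Surjective π) : ¬ IsTI p G := by
  intro h
  obtain ⟨P, hxP⟩ := exists_sylow_mem (p := p) (pElt_of_orderOf hx)
  have hx1 : x ≠ 1 := by
    rintro rfl
    rw [orderOf_one] at hx
    exact hp.out.one_lt.ne hx
  have key : ∀ c : ↥(centralizer ({x} : Set G)), PElt p c → (c : G) ∈ P := fun c hc =>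
    h.mem_of_comm hxP hx1 (mem_centralizer_singleton_iff.1 c.2).symm (hc.map (centralizer ({x} : Set G)).subtype)
  let R : Subgroup ↥(centralizer ({x} : Set G)) := (P : Subgroup G).subgroupOf _
  have hRp : IsPGroup p R := P.isPGroup'.comap_of_injective _ (Subgroup.subtype_injective _)
  have hRn : R.Normal := ⟨fun r hr g => by
    rw [mem_subgroupOf]
    exact key _ ((pElt_of_mem hRp hr).conj g)⟩
  have h1 : (R.map π).Normal := hRn.map π hπ
  have hRπ : IsPGroup p (R.map π) := hRp.map π
  rcases h1.eq_bot_or_eq_top with h2 | h2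
  · obtain ⟨k, hk⟩ := exists_prime_orderOf_dvd_card' (G := K) p hpK
    obtain ⟨c, hc⟩ := hπ k
    obtain ⟨a, m, hm, hn⟩ := Nat.exists_eq_pow_mul_and_not_dvd (orderOf_pos c).ne' p hp.out.ne_one
    have h3 : PElt p (c ^ m) := ⟨a, by rw [← pow_mul, mul_comm, ← hn, pow_orderOf_eq_one]⟩
    have h4 : π (c ^ m) ∈ R.map π := ⟨_, (by rw [SetLike.mem_coe, mem_subgroupOf]; exact key _ h3), rfl⟩
    rw [h2, mem_bot, map_pow, hc] at h4
    have h5 := orderOf_dvd_of_pow_eq_one h4
    rw [hk] at h5
    exact hm h5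
  · apply hna
    have h4 : IsPGroup p K := by
      have : IsPGroup p (⊤ : Subgroup K) := h2 ▸ hRπ
      exact this.of_equiv Subgroup.topEquiv
    have h5 : (center K).Normal := inferInstance
    rcases h5.eq_bot_or_eq_top with h6 | h6
    · exfalso
      have h7 := h4.center_nontrivial
      exact (Subgroup.nontrivial_iff_ne_bot _).1 h7 h6
    · refine ⟨⟨fun a b => ?_⟩⟩
      have h7 : b ∈ center K := by rw [h6]; exact mem_top b
      exact mem_center_iff.1 h7 a

/-- from the absence of strongly `p`-embedded subgroups -/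
theorem not_ti_of_nosp [Finite G] [hp : Fact p.Prime] [IsSimpleGroup G] (hna : ¬ IsMulCommutative G)
    (hpG : p ∣ Nat.card G) (h : H998.StrP.NoSP p G) : ¬ IsTI p G := by
  intro hTI
  obtain ⟨x, hx⟩ := exists_prime_orderOf_dvd_card' (G := G) p hpG
  have hx1 : x ≠ 1 := by
    rintro rfl
    rw [orderOf_one] at hx
    exact hp.out.one_lt.ne hx
  exact Link.not_noSP hna hTI (isPGroup_zpowers (pElt_of_orderOf hx)) (fun hb => hx1 (zpowers_eq_bot.1 hb)) h

/-- from a subgroup without strongly `p`-embedded subgroups -/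
theorem not_ti_of_hom_nosp {K : Type*} [Group K] [Finite K] [hp : Fact p.Prime] [IsSimpleGroup K]
    (hna : ¬ IsMulCommutative K) (hpK : p ∣ Nat.card K) (h : H998.StrP.NoSP p K) (f : K →* G)
    (hf : Function.Injective f) : ¬ IsTI p G := fun hTI => not_ti_of_nosp hna hpK h (hTI.of_injective f hf)

end Cfsg.Agent.H666.SporBase
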