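import Cfsg.Agent.H666.SporBase
import Cfsg.Agent.H964.NoHall.RowFi22

/-!
# Fi22: the Sylow 5-subgroups are not TI (helper666)

`x = a b c d` has order 5 and commutes with two elements of order 5 whose product is an involution (`C(x) = 5 × S₅`).
-/

set_option autoImplicit false
set_option maxRecDepth 100000

namespace Cfsg.Agent.H666.SporFi22

open Cfsg Cfsg.Spor Cfsg.Spor.Fi22 Cfsg.Agent.H666.TI Cfsg.Agent.H666.SporBase
open Cfsg.Agent.Fischer.Fi22PtsRep Cfsg.Agent.H964.NoHall Cfsg.Agent.Lib.PermNet Cfsg.Agent.Lib.PermNetOrbit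

def wx : List Gen := [.a, .b, .c, .d]
def wu : List Gen := [.f, .g, .i, .e, .d, .h, .c, .d, .e, .b, .c, .d, .h, .g, .f, .e, .d, .c, .b, .a, .b, .c, .d, .e,
  .f, .g, .h, .d, .c, .b, .e, .d, .c, .h, .d, .e]
def wv : List Gen := [.f, .g, .e, .d, .h, .c, .d, .e, .b, .c, .d, .h, .g, .f, .e, .d, .c, .b, .a, .b, .c, .d, .e, .f,
  .g, .h, .d, .c, .b, .e, .d, .c, .h, .d, .e, .i]

theorem x5 : wd wx ^ 5 = 1 := fi22_pow (by decide +kernel)
theorem x1 : wd wx ≠ 1 := fi22_ne (m := 12) (by decide +kernel)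
theorem u5 : wd wu ^ 5 = 1 := fi22_pow (by decide +kernel)
theorem v5 : wd wv ^ 5 = 1 := fi22_pow (by decide +kernel)
theorem uv2 : wd (wu ++ wv) ^ 2 = 1 := fi22_pow (by decide +kernel)
theorem uv1 : wd (wu ++ wv) ≠ 1 := fi22_ne (m := 12) (by decide +kernel)
theorem xu : wd wx * wd wu = wd wu * wd wx := fi22_comm (by decide +kernel)
theorem xv : wd wx * wd wv = wd wv * wd wx := fi22_comm (by decide +kernel)

/-- **Fi22, `p = 5`.** -/
theorem fi22_5 {G : Type*} [Group G] (h : Spor.IsoFi22 G) : ¬ IsTI 5 G := by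
  obtain ⟨e⟩ := h
  have : Fact (Nat.Prime 5) := ⟨by norm_num⟩
  have h1 : ¬ IsTI 5 Spor.Fi22 := by
    have h2 := uv2
    have h3 := uv1
    rw [wd_append] at h2 h3
    exact not_ti_of_three x1 x5 u5 v5 xu xv (n := 2) (by norm_num) h2 h3
  exact fun hTI => h1 (hTI.congr e)

end Cfsg.Agent.H666.SporFi22
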