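import Cfsg.Prelude.Def_Classification2
import Cfsg.Agent.H666.SporBase
import Cfsg.Agent.H666.SporM
import Cfsg.Agent.H666.SporBM
import Cfsg.Agent.H666.SporFi22
import Cfsg.Agent.H469.RowAlt
import Cfsg.Agent.NotCT.Orders
import Cfsg.Agent.H809.StrP.Mathieu
import Cfsg.Agent.H809.StrP.JTwo
import Cfsg.Agent.H809.StrP.JThree
import Cfsg.Agent.H859.StrP.M24
import Cfsg.Agent.H859.StrP.J4
import Cfsg.Agent.H998.StrP.HSRow
import Cfsg.Agent.H998.StrP.CoRows
import Cfsg.Agent.H99.SuzFive
import Cfsg.Agent.H393.Str.He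
import Cfsg.Agent.H660.NoSPRu
import Cfsg.Agent.H248.NoSPON
import Cfsg.Agent.H660.NoSPLyHN
import Cfsg.Agent.H154.StrP.Fi23
import Cfsg.Agent.H52.StrFi24
import Cfsg.Agent.H49.ThSevenRow
import Cfsg.Agent.H49.ThFiveRow
import Cfsg.Agent.H752.CoOneSevenSP
import Cfsg.Agent.H184.StrTits

/-!
# Sporadic groups with noncyclic TI Sylow `p`-subgroups, `p` odd (helper666)

`spor_ti` : the group is `M₁₁` (`p = 3`), the Tits group or `McL` (`p = 5`) or `J₄` (`p = 11`).
-/

set_option autoImplicit false
set_option maxRecDepth 100000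

namespace Cfsg.Agent.H666.SporTI

open Subgroup Cfsg Cfsg.Agent.H666.TI Cfsg.Agent.H666.SporBase Cfsg.Agent.NotCT
open Cfsg.Agent.H998.StrP (val primes_of NoSP)

/-- the sporadic list -/
def SporList (p : ℕ) (G : Type*) [Group G] : Prop :=
  (p = 3 ∧ Spor.IsoM11 G) ∨ (p = 5 ∧ (Lie.IsoTits G ∨ Spor.IsoMcL G)) ∨ (p = 11 ∧ Spor.IsoJ4 G)

/-- the odd primes whose square divides the order -/
def good (l : List (ℕ × ℕ)) : List ℕ :=
  (l.map Prod.fst).filter fun q => decide (q ≠ 2) && decide (val l % q ^ 2 = 0)

theorem exists_mem_of_dvd {p : ℕ} (hp : p.Prime) : ∀ l : List (ℕ × ℕ), (∀ q ∈ l, Nat.Prime q.1) → p ∣ val l →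
    p ∈ l.map Prod.fst
  | [], _, h => absurd (Nat.dvd_one.1 h) hp.one_lt.ne'
  | (q, e) :: l, hl, h => by
    rcases hp.dvd_mul.1 h with h1 | h1
    · have h2 := (Nat.prime_dvd_prime_iff_eq hp (hl (q, e) List.mem_cons_self)).1 (hp.dvd_of_dvd_pow h1)
      rw [h2]
      exact List.mem_cons_self
    · exact List.mem_cons_of_mem _ (exists_mem_of_dvd hp l (fun r hr => hl r (List.mem_cons_of_mem _ hr)) h1)

variable {G : Type*} [Group G] [Finite G] {p : ℕ} [hp : Fact p.Prime]

theorem mem_good (hp2 : p ≠ 2) (P : Sylow p G) (hnc : ¬ IsCyclic ↥(P : Subgroup G)) (l : List (ℕ × ℕ))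
    (hl : (l.all fun q => decide (q.1 ∈ [2, 3, 5, 7, 11, 13, 17, 19, 23, 29, 31, 37, 41, 43, 47, 59, 67, 71])) = true)
    {N : ℕ} (hc : Nat.card G = N) (hN : Nat.beq N (val l) = true) {l' : List ℕ} (hl' : good l = l') : p ∈ l' := by
  have h1 : p ^ 2 ∣ val l := by
    rw [← Nat.eq_of_beq_eq_true hN, ← hc]
    by_contra h
    exact hnc (H469.isCyclic_of_card h P)
  have h2 := exists_mem_of_dvd hp.out l (primes_of hl) ((dvd_pow_self p two_ne_zero).trans h1)
  rw [← hl', good, List.mem_filter]
  refine ⟨h2, ?_⟩
  rw [Bool.and_eq_true, decide_eq_true_eq, decide_eq_true_eq]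
  exact ⟨hp2, Nat.mod_eq_zero_of_dvd h1⟩

theorem spor_ti (Tb : OrdDiv.OrderTable.{0})
    (hS : ∀ (S : Type) [Group S] [Finite S] [IsSimpleGroup S], IsKnownSimple' S) [IsSimpleGroup G]
    (hna : ¬ IsMulCommutative G) (hp2 : p ≠ 2) (hTI : IsTI p G) (P : Sylow p G)
    (hnc : ¬ IsCyclic ↥(P : Subgroup G)) (h : IsSporadicGroup G ∨ Lie.IsoTits G) : SporList p G := by
  have kill : NoSP p G → SporList p G := fun hno => by
    exfalso
    have h1 : p ∣ Nat.card G := by
      by_contra hd
      exact hnc (H469.isCyclic_of_card (fun h => hd ((dvd_pow_self p two_ne_zero).trans h)) P)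
    exact not_ti_of_nosp hna h1 hno hTI
  have mem : ∀ (l : List (ℕ × ℕ))
    (_ : (l.all fun q => decide (q.1 ∈ [2, 3, 5, 7, 11, 13, 17, 19, 23, 29, 31, 37, 41, 43, 47, 59, 67, 71])) = true)
    {N : ℕ} (_ : Nat.card G = N) (_ : Nat.beq N (val l) = true) {l' : List ℕ} (_ : good l = l'), p ∈ l' :=
    fun l hl _ hc hN _ hl' => mem_good hp2 P hnc l hl hc hN hl'
  rcases h with h | h
  · rcases h with h | h | h | h | h | h | h | h | h | h | h | h | h | h | h | h | h | h | h | h | h | h | h | h | h | h
    · -- M11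
      have h1 := mem [(2, 4), (3, 2), (5, 1), (11, 1)] (by decide +kernel) (Orders.m11 h) (by decide +kernel)
        (l' := [3]) (by decide +kernel)
      rw [List.mem_singleton] at h1
      exact Or.inl ⟨h1, h⟩
    · -- M12
      have h1 := mem [(2, 6), (3, 3), (5, 1), (11, 1)] (by decide +kernel) (Orders.m12 h) (by decide +kernel)
        (l' := [3]) (by decide +kernel)
      rw [List.mem_singleton] at h1
      subst h1
      exact kill (H809.StrP.Mathieu.nosp_m12_3 h)
    · -- M22
      have h1 := mem [(2, 7), (3, 2), (5, 1), (7, 1), (11, 1)] (by decide +kernel) (Orders.m22 h) (by decide +kernel)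
        (l' := [3]) (by decide +kernel)
      rw [List.mem_singleton] at h1
      subst h1
      exact kill (H809.StrP.Mathieu.nosp_m22_3 h)
    · -- M23
      have h1 := mem [(2, 7), (3, 2), (5, 1), (7, 1), (11, 1), (23, 1)] (by decide +kernel) (Orders.m23 h)
        (by decide +kernel) (l' := [3]) (by decide +kernel)
      rw [List.mem_singleton] at h1
      subst h1
      exact kill (H809.StrP.Mathieu.nosp_m23_3 h)
    · -- M24
      have h1 := mem [(2, 10), (3, 3), (5, 1), (7, 1), (11, 1), (23, 1)] (by decide +kernel) (Orders.m24 h)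
        (by decide +kernel) (l' := [3]) (by decide +kernel)
      rw [List.mem_singleton] at h1
      subst h1
      obtain ⟨e⟩ := h
      exact kill (H859.StrP.m24_3.congr e)
    · -- J1
      have h1 := mem [(2, 3), (3, 1), (5, 1), (7, 1), (11, 1), (19, 1)] (by decide +kernel) (Orders.j1 h)
        (by decide +kernel) (l' := []) (by decide +kernel)
      exact absurd h1 List.not_mem_nil
    · -- J2
      have h1 := mem [(2, 7), (3, 3), (5, 2), (7, 1)] (by decide +kernel) (Orders.j2 h)
        (by decide +kernel) (l' := [3, 5]) (by decide +kernel)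
      simp only [List.mem_cons, List.not_mem_nil, or_false] at h1
      rcases h1 with rfl | rfl
      · exact kill (H809.StrP.JTwo.nosp_j2_3 h)
      · exact kill (H809.StrP.JTwo.nosp_j2_5 h)
    · -- J3
      have h1 := mem [(2, 7), (3, 5), (5, 1), (17, 1), (19, 1)] (by decide +kernel) (Orders.j3 h)
        (by decide +kernel) (l' := [3]) (by decide +kernel)
      rw [List.mem_singleton] at h1
      subst h1
      exact kill (H809.StrP.JThree.nosp_j3_3 h)
    · -- J4
      have h1 := mem [(2, 21), (3, 3), (5, 1), (7, 1), (11, 3), (23, 1), (29, 1), (31, 1), (37, 1), (43, 1)]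
        (by decide +kernel) (Orders.j4 h) (by decide +kernel) (l' := [3, 11]) (by decide +kernel)
      simp only [List.mem_cons, List.not_mem_nil, or_false] at h1
      rcases h1 with rfl | rfl
      · exact kill (H859.StrP.nosp_j4_3 h)
      · exact Or.inr (Or.inr ⟨rfl, h⟩)
    · -- Co1
      have h1 := mem [(2, 21), (3, 9), (5, 4), (7, 2), (11, 1), (13, 1), (23, 1)]
        (by decide +kernel) (Orders.co1 h) (by decide +kernel) (l' := [3, 5, 7]) (by decide +kernel)
      simp only [List.mem_cons, List.not_mem_nil, or_false] at h1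
      rcases h1 with rfl | rfl | rfl
      · exact kill (H998.StrP.co1_3 (Orders.co1 h))
      · exact kill (H998.StrP.CoRows.nosp_co1_5 h)
      · exact kill (H752.CoOneSevenSP.nosp_co1_7 h)
    · -- Co2
      have h1 := mem [(2, 18), (3, 6), (5, 3), (7, 1), (11, 1), (23, 1)]
        (by decide +kernel) (Orders.co2 h) (by decide +kernel) (l' := [3, 5]) (by decide +kernel)
      simp only [List.mem_cons, List.not_mem_nil, or_false] at h1
      rcases h1 with rfl | rfl
      · exact kill (H998.StrP.co2_3 (Orders.co2 h))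
      · exact kill (H998.StrP.CoRows.nosp_co2_5 h)
    · -- Co3
      have h1 := mem [(2, 10), (3, 7), (5, 3), (7, 1), (11, 1), (23, 1)]
        (by decide +kernel) (Orders.co3 h) (by decide +kernel) (l' := [3, 5]) (by decide +kernel)
      simp only [List.mem_cons, List.not_mem_nil, or_false] at h1
      rcases h1 with rfl | rfl
      · exact kill (H998.StrP.co3_3 (Orders.co3 h))
      · exact kill (H998.StrP.CoRows.nosp_co3_5 h)
    · -- McL
      have h1 := mem [(2, 7), (3, 6), (5, 3), (7, 1), (11, 1)]
        (by decide +kernel) (Orders.mcl h) (by decide +kernel) (l' := [3, 5]) (by decide +kernel)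
      simp only [List.mem_cons, List.not_mem_nil, or_false] at h1
      rcases h1 with rfl | rfl
      · exact kill (H998.StrP.mcl_3 (Orders.mcl h))
      · exact Or.inr (Or.inl ⟨rfl, Or.inr h⟩)
    · -- HS
      have h1 := mem [(2, 9), (3, 2), (5, 3), (7, 1), (11, 1)]
        (by decide +kernel) (Orders.hs h) (by decide +kernel) (l' := [3, 5]) (by decide +kernel)
      simp only [List.mem_cons, List.not_mem_nil, or_false] at h1
      rcases h1 with rfl | rfl
      · exact kill (H998.StrP.HSRow.nosp_hs_3 h)
      · exact kill (H998.StrP.HSRow.nosp_hs_5 h)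
    · -- Suz
      have h1 := mem [(2, 13), (3, 7), (5, 2), (7, 1), (11, 1), (13, 1)]
        (by decide +kernel) (Orders.suz h) (by decide +kernel) (l' := [3, 5]) (by decide +kernel)
      simp only [List.mem_cons, List.not_mem_nil, or_false] at h1
      rcases h1 with rfl | rfl
      · exact kill (H998.StrP.suz_3 (Orders.suz h))
      · exact kill (H99.SuzFive.nosp_suz_5 h)
    · -- He
      have h1 := mem [(2, 10), (3, 3), (5, 2), (7, 3), (17, 1)]
        (by decide +kernel) (Orders.he h) (by decide +kernel) (l' := [3, 5, 7]) (by decide +kernel)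
      simp only [List.mem_cons, List.not_mem_nil, or_false] at h1
      rcases h1 with rfl | rfl | rfl
      · exact kill (H393.Str.He.nosp_he_3 h)
      · exact kill (H393.Str.He.nosp_he_5 h)
      · exact kill (H998.StrP.he_7 (Orders.he h))
    · -- Ru
      have h1 := mem [(2, 14), (3, 3), (5, 3), (7, 1), (13, 1), (29, 1)]
        (by decide +kernel) (Orders.ru h) (by decide +kernel) (l' := [3, 5]) (by decide +kernel)
      simp only [List.mem_cons, List.not_mem_nil, or_false] at h1
      rcases h1 with rfl | rfl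
      · exact kill (H660.NoSPRows.nosp_ru_3 h)
      · exact kill (H660.NoSPRows.nosp_ru_5 h)
    · -- ON
      have h1 := mem [(2, 9), (3, 4), (5, 1), (7, 3), (11, 1), (19, 1), (31, 1)]
        (by decide +kernel) (Orders.on h) (by decide +kernel) (l' := [3, 7]) (by decide +kernel)
      simp only [List.mem_cons, List.not_mem_nil, or_false] at h1
      rcases h1 with rfl | rfl
      · exact kill (H248.NoSPON.nosp_on_3 h)
      · exact kill (H248.NoSPON.nosp_on_7 h)
    · -- Ly
      have h1 := mem [(2, 8), (3, 7), (5, 6), (7, 1), (11, 1), (31, 1), (37, 1), (67, 1)]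
        (by decide +kernel) (Orders.ly h) (by decide +kernel) (l' := [3, 5]) (by decide +kernel)
      simp only [List.mem_cons, List.not_mem_nil, or_false] at h1
      rcases h1 with rfl | rfl
      · exact kill (H660.NoSPRows.nosp_ly_3 h)
      · exact kill (H998.StrP.ly_5 (Orders.ly h))
    · -- Fi22
      have h1 := mem [(2, 17), (3, 9), (5, 2), (7, 1), (11, 1), (13, 1)]
        (by decide +kernel) (Orders.fi22 h) (by decide +kernel) (l' := [3, 5]) (by decide +kernel)
      simp only [List.mem_cons, List.not_mem_nil, or_false] at h1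
      rcases h1 with rfl | rfl
      · exact kill (H998.StrP.fi22_3 (Orders.fi22 h))
      · exact absurd hTI (SporFi22.fi22_5 h)
    · -- Fi23
      have h1 := mem [(2, 18), (3, 13), (5, 2), (7, 1), (11, 1), (13, 1), (17, 1), (23, 1)]
        (by decide +kernel) (Orders.fi23 h) (by decide +kernel) (l' := [3, 5]) (by decide +kernel)
      simp only [List.mem_cons, List.not_mem_nil, or_false] at h1
      rcases h1 with rfl | rfl
      · exact kill (H998.StrP.fi23_3 (Orders.fi23 h))
      · exact kill (H154.StrP.Fi23.nosp_fi23_5 h)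
    · -- Fi24'
      have h1 := mem [(2, 21), (3, 16), (5, 2), (7, 3), (11, 1), (13, 1), (17, 1), (23, 1), (29, 1)]
        (by decide +kernel) (Orders.fi24 h) (by decide +kernel) (l' := [3, 5, 7]) (by decide +kernel)
      simp only [List.mem_cons, List.not_mem_nil, or_false] at h1
      rcases h1 with rfl | rfl | rfl
      · exact kill (H998.StrP.fi24_3 (Orders.fi24 h))
      · exact kill (H52.StrFi24.nosp_fi24p_5 h)
      · exact kill (H52.StrFi24.nosp_fi24p_7 h)
    · -- HN
      have h1 := mem [(2, 14), (3, 6), (5, 6), (7, 1), (11, 1), (19, 1)]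
        (by decide +kernel) (Orders.hn h) (by decide +kernel) (l' := [3, 5]) (by decide +kernel)
      simp only [List.mem_cons, List.not_mem_nil, or_false] at h1
      rcases h1 with rfl | rfl
      · exact kill (H660.NoSPRows.nosp_hn_3 h)
      · exact kill (H998.StrP.hn_5 (Orders.hn h))
    · -- Th
      have h1 := mem [(2, 15), (3, 10), (5, 3), (7, 2), (13, 1), (19, 1), (31, 1)]
        (by decide +kernel) (Orders.th h) (by decide +kernel) (l' := [3, 5, 7]) (by decide +kernel)
      simp only [List.mem_cons, List.not_mem_nil, or_false] at h1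
      rcases h1 with rfl | rfl | rfl
      · exact kill (H998.StrP.th_3 (Orders.th h))
      · exact kill (H49.ThFive.nosp_th_5 Tb hS h)
      · exact kill (H49.ThSeven.nosp_th_7 Tb hS h)
    · -- B
      have h1 := mem [(2, 41), (3, 13), (5, 6), (7, 2), (11, 1), (13, 1), (17, 1), (19, 1), (23, 1), (31, 1), (47, 1)]
        (by decide +kernel) (Orders.b h) (by decide +kernel) (l' := [3, 5, 7]) (by decide +kernel)
      simp only [List.mem_cons, List.not_mem_nil, or_false] at h1
      rcases h1 with rfl | rfl | rfl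
      · exact absurd hTI (SporBM.b_3 hna h)
      · exact absurd hTI (SporBM.b_5 h)
      · exact absurd hTI (SporBM.b_7 h P hnc)
    · -- M
      have h1 := mem [(2, 46), (3, 20), (5, 9), (7, 6), (11, 2), (13, 3), (17, 1), (19, 1), (23, 1), (29, 1), (31, 1),
        (41, 1), (47, 1), (59, 1), (71, 1)]
        (by decide +kernel) (Orders.m h) (by decide +kernel) (l' := [3, 5, 7, 11, 13]) (by decide +kernel)
      simp only [List.mem_cons, List.not_mem_nil, or_false] at h1
      rcases h1 with rfl | rfl | rfl | rfl | rfl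
      · exact absurd hTI (SporBM.m_3 hna h)
      · exact absurd hTI (SporBM.m_5 h)
      · exact absurd hTI (SporBM.m_7 h)
      · exact absurd hTI (SporM.m_11 h)
      · exact absurd hTI (SporM.m_13 h)
  · -- Tits
    have h1 := mem [(2, 11), (3, 3), (5, 2), (13, 1)]
      (by decide +kernel) (Orders.tits h) (by decide +kernel) (l' := [3, 5]) (by decide +kernel)
    simp only [List.mem_cons, List.not_mem_nil, or_false] at h1
    rcases h1 with rfl | rfl
    · exact kill (H184.StrTits.nosp_tits_3 h)
    · exact Or.inr (Or.inl ⟨rfl, Or.inl h⟩)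

end Cfsg.Agent.H666.SporTI
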