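import Cfsg.Agent.H666.Lattice

/-!
# Fixed vectors of a subgroup containing the normalizer of a TI `p`-subgroup

`fixed_of_fixed` : `P ≤ H ≤ G`, `P` a `p`-group, and a nonidentity element of `P` fixes only the
point `H` of `G ⧸ H` (for instance `P` a TI Sylow `p`-subgroup and `N_G(P) ≤ H`).  If `V` is a complex
representation of `G` with `dim V - dim V^G < #P`, then every vector fixed by `H` is fixed by `G`.
-/

set_option autoImplicit false
set_option linter.style.haveILetI false
set_option linter.unusedSectionVars false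

namespace Cfsg.Agent.H666

open Module Submodule

variable {G : Type*} [Group G] {V : Type*} [AddCommGroup V] [Module ℂ V]

/-- The case without `G`-fixed vectors. -/
theorem fixed_eq_zero [Finite G] (p : ℕ) [Fact p.Prime] (P H : Subgroup G) (hP : IsPGroup p P)
    (hPH : P ≤ H) (hfree : ∀ x ∈ P, x ≠ 1 → ∀ g : G, g⁻¹ * x * g ∈ H → g ∈ H)
    [FiniteDimensional ℂ V] (ρ : Representation ℂ G V) (hdim : finrank ℂ V < Nat.card P)
    (h0 : ∀ v, (∀ g : G, ρ g v = v) → v = 0) (v : V) (hv : ∀ h ∈ H, ρ h v = v) : v = 0 := by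
  classical
  haveI : Fintype G := Fintype.ofFinite G
  haveI : Fintype P := Fintype.ofFinite P
  haveI : Fintype (G ⧸ H) := Fintype.ofFinite _
  by_contra hv0
  obtain ⟨B, hpB⟩ := exists_valuationSubring p
  -- a stable lattice
  let b₀ := finBasis ℂ V
  let S : Finset V := Finset.univ.image fun gi : G × Fin (finrank ℂ V) => ρ gi.1 (b₀ gi.2)
  have hS : span ℂ (S : Set V) = ⊤ := by
    rw [eq_top_iff, ← b₀.span_eq, span_le]
    rintro _ ⟨i, rfl⟩
    refine subset_span ?_
    simp only [S, Finset.coe_image, Finset.coe_univ, Set.image_univ, Set.mem_range]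
    exact ⟨(1, i), by simp⟩
  obtain ⟨T, b, hb⟩ := exists_basis B S hS
  have hcardT : Fintype.card T < Nat.card P := by
    rw [← Module.finrank_eq_card_basis b]; exact hdim
  have hstab : ∀ g : G, ∀ m ∈ span B (Set.range b), ρ g m ∈ span B (Set.range b) := by
    intro g m hm
    rw [hb] at hm ⊢
    induction hm using Submodule.span_induction with
    | mem x hx =>
      simp only [S, Finset.coe_image, Finset.coe_univ, Set.image_univ, Set.mem_range] at hx
      obtain ⟨⟨h, i⟩, rfl⟩ := hx
      refine subset_span ?_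
      simp only [S, Finset.coe_image, Finset.coe_univ, Set.image_univ, Set.mem_range]
      exact ⟨(g * h, i), by simp [map_mul]⟩
    | zero => simp
    | add x y _ _ hx hy => rw [map_add]; exact add_mem hx hy
    | smul c x _ hx =>
      have : ρ g (c • x) = c • ρ g x := by
        rw [show c • x = (c : ℂ) • x from rfl, map_smul]; rfl
      rw [this]
      exact Submodule.smul_mem _ _ hx
  -- membership in the lattice through coordinates
  have hmem : ∀ w : V, w ∈ span B (Set.range b) ↔ ∀ i, B.valuation (b.repr w i) ≤ 1 := by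
    intro w
    rw [b.mem_span_iff_repr_mem B]
    refine forall_congr' fun i => ?_
    rw [B.valuation_le_one_iff]
    constructor
    · rintro ⟨c, hc⟩
      rw [← hc]; exact c.2
    · intro h
      exact ⟨⟨_, h⟩, rfl⟩
  -- scale `v` so that its largest coordinate is a unit
  have hne : (b.repr v) ≠ 0 := fun h => hv0 (by simpa using h)
  obtain ⟨i₁, hi₁⟩ : ∃ i, b.repr v i ≠ 0 := by
    by_contra hcon
    push Not at hcon
    exact hne (Finsupp.ext hcon)
  obtain ⟨i₀, -, hmax⟩ := Finset.exists_max_image Finset.univ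
    (fun i => B.valuation (b.repr v i)) ⟨i₁, Finset.mem_univ _⟩
  have hi₀ : b.repr v i₀ ≠ 0 := by
    intro h
    have := hmax i₁ (Finset.mem_univ _)
    rw [h, map_zero, le_zero_iff, map_eq_zero] at this
    exact hi₁ this
  set c : ℂ := (b.repr v i₀)⁻¹ with hc
  let u : V := c • v
  have hu : ∀ h ∈ H, ρ h u = u := fun h hh => by
    show ρ h (c • v) = c • v
    rw [map_smul, hv h hh]
  have huM : u ∈ span B (Set.range b) := by
    rw [hmem]
    intro i
    have : b.repr u i = b.repr v i / b.repr v i₀ := by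
      show b.repr (c • v) i = _
      rw [map_smul, Finsupp.smul_apply, smul_eq_mul, hc, div_eq_inv_mul]
    rw [this, map_div₀]
    exact div_le_one_of_le₀ (hmax i (Finset.mem_univ _)) zero_le
  have hui : b.repr u i₀ = 1 := by
    show b.repr (c • v) i₀ = 1
    rw [map_smul, Finsupp.smul_apply, smul_eq_mul, hc, inv_mul_cancel₀ hi₀]
  -- the function on cosets
  let f : G ⧸ H → V := fun q => ρ q.out u
  have hf : ∀ g : G, f (g : G ⧸ H) = ρ g u := by
    intro g
    obtain ⟨h, hh⟩ := QuotientGroup.mk_out_eq_mul H g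
    show ρ (Quotient.out (g : G ⧸ H)) u = ρ g u
    rw [hh, map_mul, Module.End.mul_apply, hu h h.2]
  have hfs : ∀ (g : G) (q : G ⧸ H), f (g • q) = ρ g (f q) := by
    intro g q
    induction q using QuotientGroup.induction_on with
    | H x =>
      rw [hf, MulAction.Quotient.smul_coe, hf, smul_eq_mul, map_mul, Module.End.mul_apply]
  have hfM : ∀ q : G ⧸ H, f q ∈ span B (Set.range b) := fun q => hstab _ _ huM
  have hsum0 : ∑ q : G ⧸ H, f q = 0 := by
    apply h0
    intro g
    rw [map_sum]
    calc ∑ q : G ⧸ H, ρ g (f q) = ∑ q : G ⧸ H, f (g • q) :=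
          Finset.sum_congr rfl fun q _ => (hfs g q).symm
      _ = ∑ q : G ⧸ H, f q := Equiv.sum_comp (MulAction.toPerm g) f
  -- the action of `P` on the other cosets
  let q₀ : G ⧸ H := ((1 : G) : G ⧸ H)
  have hq₀ : ∀ x ∈ P, ∀ q : G ⧸ H, x • q = q₀ → q = q₀ := by
    intro x hx q hq
    have hxi : x⁻¹ • q₀ = q₀ := by
      show ((x⁻¹ * 1 : G) : G ⧸ H) = ((1 : G) : G ⧸ H)
      rw [QuotientGroup.eq]
      simpa using hPH hx
    rw [← hxi, ← hq, inv_smul_smul]
  let X := {q : G ⧸ H // q ≠ q₀}
  letI : MulAction P X :=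
    { smul := fun x q => ⟨(x : G) • q.1, fun h => q.2 (hq₀ x.1 x.2 q.1 h)⟩
      one_smul := fun q => Subtype.ext (one_smul G q.1)
      mul_smul := fun x y q => Subtype.ext (mul_smul (x : G) (y : G) q.1) }
  have hsmul : ∀ (x : P) (q : X), ((x • q : X) : G ⧸ H) = (x : G) • (q : G ⧸ H) := fun _ _ => rfl
  have hfreeX : ∀ (x : P) (q : X), x • q = q → x = 1 := by
    intro x q hq
    by_contra hx1
    have h1 : (x : G) • (q : G ⧸ H) = q := congrArg Subtype.val hq
    obtain ⟨q, hqne⟩ := q
    induction q using QuotientGroup.induction_on with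
    | H g =>
      have h2 : ((x.1 * g : G) : G ⧸ H) = (g : G ⧸ H) := h1
      rw [eq_comm, QuotientGroup.eq] at h2
      have h3 : g ∈ H := hfree x.1 x.2 (fun h => hx1 (Subtype.ext h)) g (by
        rw [mul_assoc]; exact h2)
      apply hqne
      show (g : G ⧸ H) = ((1 : G) : G ⧸ H)
      rw [QuotientGroup.eq]
      simpa using h3
  let O := MulAction.orbitRel.Quotient P X
  haveI : Fintype O := Fintype.ofFinite _
  let F : P × O → X := fun z => z.1 • (Quotient.out z.2 : X)
  have hF : Function.Bijective F := by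
    constructor
    · rintro ⟨x, o⟩ ⟨y, o'⟩ h
      have h1 : x • (Quotient.out o : X) = y • (Quotient.out o' : X) := h
      have h2 : o = o' := by
        have e1 : (Quotient.mk'' (x • (Quotient.out o : X)) : O) = o := by
          have : (Quotient.mk'' (x • (Quotient.out o : X)) : O) = Quotient.mk'' (Quotient.out o) :=
            Quotient.sound' ⟨x, rfl⟩
          rw [this]; exact Quotient.out_eq' o
        have e2 : (Quotient.mk'' (y • (Quotient.out o' : X)) : O) = o' := by
          have : (Quotient.mk'' (y • (Quotient.out o' : X)) : O) =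
            Quotient.mk'' (Quotient.out o') := Quotient.sound' ⟨y, rfl⟩
          rw [this]; exact Quotient.out_eq' o'
        rw [← e1, ← e2, h1]
      subst h2
      have h3 : (y⁻¹ * x) • (Quotient.out o : X) = Quotient.out o := by
        rw [mul_smul, h1, inv_smul_smul]
      have h4 := hfreeX _ _ h3
      have h5 : x = y := by
        rw [inv_mul_eq_one] at h4; exact h4.symm
      rw [h5]
    · intro q
      have h1 : (Quotient.mk'' (Quotient.out (Quotient.mk'' q : O)) : O) = Quotient.mk'' q :=
        Quotient.out_eq' _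
      obtain ⟨x, hx⟩ := Quotient.exact' h1
      have hx' : x • q = Quotient.out (Quotient.mk'' q : O) := hx
      refine ⟨(x⁻¹, Quotient.mk'' q), ?_⟩
      show x⁻¹ • (Quotient.out (Quotient.mk'' q : O) : X) = q
      rw [← hx', inv_smul_smul]
  let w : V := ∑ o : O, f (Quotient.out o : X).1
  have hwM : w ∈ span B (Set.range b) := Submodule.sum_mem _ fun o _ => hfM _
  have htr : ∑ q : X, f q.1 = ∑ x : P, ρ x w := by
    rw [← hF.sum_comp (fun q : X => f q.1), Fintype.sum_prod_type]
    refine Finset.sum_congr rfl fun x _ => ?_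
    rw [map_sum]
    refine Finset.sum_congr rfl fun o _ => ?_
    show f ((x : G) • (Quotient.out o : X).1) = _
    rw [hfs]
  have hsplit : ∑ q : G ⧸ H, f q = f q₀ + ∑ q : X, f q.1 := by
    rw [← Finset.add_sum_erase Finset.univ f (Finset.mem_univ q₀)]
    congr 1
    rw [← Finset.sum_subtype (p := fun q => q ≠ q₀)]
    intro q
    simp
  have huw : u = -∑ x : P, ρ x w := by
    rw [hsplit, htr, hf] at hsum0
    rw [map_one, Module.End.one_apply] at hsum0
    exact eq_neg_of_add_eq_zero_left hsum0
  have hlt := trace_small B p hpB hP b (ρ.comp P.subtype) (fun g m hm => hstab g m hm) hcardT w hwM i₀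
  have h1 : b.repr u i₀ = -(b.repr (∑ x : P, ρ x w) i₀) := by
    rw [huw, map_neg, Finsupp.neg_apply]
  have h2 : B.valuation (b.repr (∑ x : P, ρ x w) i₀) = 1 := by
    rw [← Valuation.map_neg, ← h1, hui, map_one]
  exact absurd h2 hlt.ne

/-- If `dim V < #P + dim V^G`, then each vector fixed by `H` is fixed by `G`. -/
theorem fixed_of_fixed [Finite G] (p : ℕ) [Fact p.Prime] (P H : Subgroup G) (hP : IsPGroup p P)
    (hPH : P ≤ H) (hfree : ∀ x ∈ P, x ≠ 1 → ∀ g : G, g⁻¹ * x * g ∈ H → g ∈ H)
    [FiniteDimensional ℂ V] (ρ : Representation ℂ G V)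
    (hdim : finrank ℂ V < Nat.card P + finrank ℂ (Representation.invariants ρ)) (v : V)
    (hv : ∀ h ∈ H, ρ h v = v) (g : G) : ρ g v = v := by
  classical
  haveI : Fintype G := Fintype.ofFinite G
  let e : V →ₗ[ℂ] V := ∑ x : G, ρ x
  have he : ∀ v, e v = ∑ x : G, ρ x v := fun v => by simp [e]
  have hcard : (Fintype.card G : ℂ) ≠ 0 := by
    exact_mod_cast Fintype.card_ne_zero
  have heg : ∀ (g : G) (v : V), ρ g (e v) = e v := by
    intro g v
    rw [he, map_sum, ← Equiv.sum_comp (Equiv.mulLeft g) (fun x => ρ x v)]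
    refine Finset.sum_congr rfl fun x _ => ?_
    simp [map_mul]
  have heg' : ∀ (g : G) (v : V), e (ρ g v) = e v := by
    intro g v
    rw [he, he, ← Equiv.sum_comp (Equiv.mulRight g) (fun x => ρ x v)]
    refine Finset.sum_congr rfl fun x _ => ?_
    simp [map_mul]
  have hfix : ∀ v, (∀ g : G, ρ g v = v) → e v = (Fintype.card G : ℂ) • v := by
    intro v hv
    rw [he, Finset.sum_congr rfl fun x _ => hv x, Finset.sum_const, Finset.card_univ,
      Nat.cast_smul_eq_nsmul]
  let W : Submodule ℂ V := LinearMap.ker e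
  have hW : ∀ g : G, ∀ w ∈ W, ρ g w ∈ W := by
    intro g w hw
    rw [LinearMap.mem_ker] at hw ⊢
    rw [heg', hw]
  let σ : Representation ℂ G W :=
    { toFun := fun g => (ρ g).restrict (hW g)
      map_one' := by ext w; simp
      map_mul' := fun g h => by
        ext w
        show ρ (g * h) w.1 = ρ g (ρ h w.1)
        simp [map_mul] }
  have hσ : ∀ (g : G) (w : W), ((σ g w : W) : V) = ρ g w := fun _ _ => rfl
  have hdimW : finrank ℂ W < Nat.card P := by
    have h1 := LinearMap.finrank_range_add_finrank_ker e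
    have h2 : Representation.invariants ρ ≤ LinearMap.range e := by
      intro v hv
      refine ⟨(Fintype.card G : ℂ)⁻¹ • v, ?_⟩
      rw [map_smul, hfix v (fun g => hv g), smul_smul, inv_mul_cancel₀ hcard, one_smul]
    have h3 := Submodule.finrank_mono h2
    have h4 : finrank ℂ (LinearMap.ker e) = finrank ℂ W := rfl
    omega
  -- the component of `v` in `W`
  let w : V := v - (Fintype.card G : ℂ)⁻¹ • e v
  have hwW : w ∈ W := by
    rw [LinearMap.mem_ker]
    show e (v - (Fintype.card G : ℂ)⁻¹ • e v) = 0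
    rw [map_sub, map_smul, hfix (e v) (fun g => heg g v), smul_smul, inv_mul_cancel₀ hcard,
      one_smul, sub_self]
  have hw0 : (⟨w, hwW⟩ : W) = 0 := by
    refine fixed_eq_zero p P H hP hPH hfree σ hdimW ?_ _ ?_
    · intro x hx
      have h1 : ∀ g : G, ρ g x.1 = x.1 := fun g => by
        rw [← hσ, hx g]
      have h2 := hfix x.1 h1
      have h3 : e x.1 = 0 := x.2
      rw [h3] at h2
      have h4 := (smul_eq_zero.mp h2.symm).resolve_left hcard
      exact Subtype.ext h4
    · intro h hh
      apply Subtype.ext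
      rw [hσ]
      show ρ h (v - (Fintype.card G : ℂ)⁻¹ • e v) = v - (Fintype.card G : ℂ)⁻¹ • e v
      rw [map_sub, map_smul, heg, hv h hh]
  have hw : v = (Fintype.card G : ℂ)⁻¹ • e v := by
    have := congrArg Subtype.val hw0
    exact sub_eq_zero.mp this
  rw [hw, map_smul, heg]

end Cfsg.Agent.H666
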