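import Mathlib
import Cfsg.Agent.H666.ModPR
import Cfsg.Agent.PRankPar.Inst

/-!
# Rank two subgroups of the exceptional groups (helper666)

`K₀` with `Mod r hp K₀`, `E ≤ K₀` elementary abelian of order `p ^ 2`, `p ≠ r`.

* `toral` : if `p` does not divide `|W|` then every finite `p`-subgroup of `D.group k` is conjugate into `T`;
* `sx_nonempty` : if there is a chain of `p` "simple" roots then every `t ∈ T` with `t ^ p = 1` centralises a root group;
* `Mod.rank_two` : some `1 ≠ x ∈ E` commutes with an `r`-element `≠ 1`.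
-/

set_option autoImplicit false
set_option linter.unusedSectionVars false

namespace Cfsg.Agent.H666.Mods

open CoxeterSystem Subgroup Cfsg Cfsg.Lie Cfsg.Lie.ChevalleyDatum
open Cfsg.Agent.ChevalleyStructure Cfsg.Agent.ChevalleyStructure.Elts Cfsg.Agent.ChevalleyStructure.CoxeterGeom
  Cfsg.Agent.ChevalleyStructure.CoxeterGeomTypes Cfsg.Agent.ChevalleyStructure.NPerm
open Cfsg.Agent.Tits.Roots Cfsg.Agent.Tits.Core Cfsg.Agent.Tits.Exchange Cfsg.Agent.Nodes.BNOf Cfsg.Agent.Nodes.RGDChev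
  Cfsg.Agent.KFacts.RgdChevCoord Cfsg.Agent.GpExc.Field
  Cfsg.Agent.KFacts.RgdField Cfsg.Agent.Nodes.Bruhat Cfsg.Agent.Nodes.LeviDec Cfsg.Agent.Nodes.Reps
  Cfsg.Agent.Nodes.OppDec Cfsg.Agent.Nodes.StabComb
open Cfsg.Agent.BpTab Cfsg.Agent.BpExc Cfsg.Agent.BpExc.TorCent Cfsg.Agent.BpExc.TorChev Cfsg.Agent.BpExc.Tow
  Cfsg.Agent.BpExc.Fr Cfsg.Agent.BpExc.Pair Cfsg.Agent.BpExc.TowChev
open Cfsg.Agent.H666.FixP Cfsg.Agent.H666.TI

universe u v

variable {D : ChevalleyDatum} {l : ℕ} {M : CoxeterMatrix (Fin l)} (hp : IsType D l M) {k : Type u} [Field k]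
  {r : ℕ} [Fact r.Prime] [CharP k r]

/-! ### torality -/

include hp in
/-- torality at a finite level -/
theorem toral_fin {F : Type u} [Field F] [Finite F] [CharP F r] {p : ℕ} [Fact p.Prime] (hpr : p ≠ r)
    (hF : Nat.card F ≡ 1 [MOD p]) (hW : ¬ p ∣ Nat.card M.Group) {E : Subgroup ↥(D.group F)} (hE : IsPGroup p E) :
    ∃ g : ↥(D.group F), ∀ x ∈ E, g⁻¹ * x * g ∈ TT D F := by
  have := finite_W hp M.toCoxeterSystem
  have := finite_group (D := D) (F := F)
  have R := rgd (K := F) hp M.toCoxeterSystem r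
  have C := coords (K := F) hp M.toCoxeterSystem r
  have hG := GG_top (K := F) hp M.toCoxeterSystem
  have hPJ : PJ M.toCoxeterSystem hp.isCartan (TT D F) (XX D l F) Set.univ = ⊤ := by
    rw [eq_top_iff]
    intro g _
    have h1 : g ∈ GG M.toCoxeterSystem hp.isCartan (TT D F) (XX D l F) := by rw [hG]; exact Subgroup.mem_top g
    obtain ⟨w, hw⟩ := (mem_GG R).1 h1
    refine (mem_PJ_iff_cell R).2 ⟨w, ?_, hw⟩
    rw [WJ_univ]
    exact Subgroup.mem_top w
  have hce : Subgroup.centralizer (∅ : Set ↥(D.group F)) = ⊤ := by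
    rw [eq_top_iff]
    intro g _
    rw [Subgroup.mem_centralizer_iff]
    intro s hs
    exact absurd hs (Set.notMem_empty s)
  have hWS : ¬ p ^ (0 + 1) ∣ Nat.card ↥(PRankPar.Orbit.WS R Set.univ (∅ : Set ↥(D.group F))) := by
    have h1 : PRankPar.Orbit.WS R Set.univ (∅ : Set ↥(D.group F)) = Set.univ := by
      ext w
      constructor
      · exact fun _ => Set.mem_univ w
      · intro _
        obtain ⟨kk, hkk⟩ := exists_rp M.toCoxeterSystem R.nsys w
        refine ⟨?_, kk, hkk, ?_⟩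
        · rw [WJ_univ]; exact Subgroup.mem_top w
        · rw [hce]; exact Subgroup.mem_top kk
    rw [h1, pow_succ, pow_zero, one_mul, Nat.card_congr (Equiv.Set.univ M.Group)]
    exact hW
  obtain ⟨g, -, hg⟩ := PRankPar.Orbit.exists_toral (k := 0) R hpr
    (fun S hS x hx => PRankPar.Frob.card_inf C (by rwa [pow_succ, pow_zero, one_mul]) S hS x hx)
    (J := Set.univ) (S := (∅ : Set ↥(D.group F))) (Set.empty_subset _)
    (fun x _ => by rw [hce]; exact Subgroup.mem_top x) hWS hE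
    (fun x _ => by rw [hPJ, hce]; exact ⟨Subgroup.mem_top x, Subgroup.mem_top x⟩)
  rw [pow_zero] at hg
  have h0 : 0 < (cj g (TT D F)).relIndex E := by
    rw [Subgroup.relIndex]
    exact Nat.pos_of_ne_zero Subgroup.index_ne_zero_of_finite
  have h1 : (cj g (TT D F)).relIndex E = 1 := le_antisymm hg h0
  have h2 : E ≤ cj g (TT D F) := Subgroup.relIndex_eq_one.1 h1
  exact ⟨g, fun x hx => mem_cj.1 (h2 hx)⟩

/-- a primitive root of unity -/
theorem exists_zeta [IsAlgClosed k] {p : ℕ} (hpp : p.Prime) (hpr : p ≠ r) : ∃ ζ : k, IsPrimitiveRoot ζ p := by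
  have h0 : ((p : ℕ) : k) ≠ 0 := by
    intro h
    rw [CharP.cast_eq_zero_iff k r] at h
    exact hpr ((Nat.prime_dvd_prime_iff_eq (Fact.out : r.Prime) hpp).1 h).symm
  have : NeZero ((p : ℕ) : k) := ⟨h0⟩
  obtain ⟨ζ, hζ⟩ := IsAlgClosed.exists_root (Polynomial.cyclotomic p k)
    (Polynomial.degree_cyclotomic_pos p k hpp.pos).ne'
  exact ⟨ζ, Polynomial.isRoot_cyclotomic_iff.1 hζ⟩

include hp in
/-- **Torality** of the finite `p`-subgroups of `D.group k`. -/
theorem toral [IsAlgClosed k] (hk : LocFin k) {p : ℕ} (hpp : p.Prime) (hpr : p ≠ r) (hW : ¬ p ∣ Nat.card M.Group)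
    {E : Subgroup ↥(D.group k)} [Finite E] (hE : IsPGroup p E) :
    ∃ z : ↥(D.group k), ∀ x ∈ E, z * x * z⁻¹ ∈ TT D k := by
  have hpf : Fact p.Prime := ⟨hpp⟩
  obtain ⟨ζ, hζ⟩ := exists_zeta (k := k) (r := r) hpp hpr
  obtain ⟨E1, hE1⟩ := exists_mem_lev hk ζ
  obtain ⟨E2, hE2⟩ := exists_level_finite hp hk (S := (E : Set ↥(D.group k))) (Set.toFinite _)
  obtain ⟨L, h1, h2⟩ := dir_lev hk E1 E2
  have := charP_lev r L.1
  have hF : Nat.card ↥L.1 ≡ 1 [MOD p] := by
    have hζL : ζ ∈ L.1 := h1 hE1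
    have hζ' : IsPrimitiveRoot (⟨ζ, hζL⟩ : ↥L.1) p := by
      refine IsPrimitiveRoot.of_map_of_injective (f := L.1.subtype) ?_ L.1.subtype.injective
      exact hζ
    have hu := hζ'.isUnit hpp.ne_zero
    have h3 : orderOf (hu.unit) = p := by
      rw [← orderOf_units, IsUnit.unit_spec]
      exact hζ'.eq_orderOf.symm
    have := Fintype.ofFinite ↥L.1
    have h4 : p ∣ Nat.card (↥L.1)ˣ := by
      rw [← h3]
      exact orderOf_dvd_natCard _
    rw [Nat.card_units] at h4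
    exact ((Nat.modEq_iff_dvd' Nat.card_pos).2 h4).symm
  have hinj := emb_injective hp.inList L.1.subtype
  have hE' : IsPGroup p (E.comap (emb hp.inList L.1.subtype)) := hE.comap_of_injective _ hinj
  obtain ⟨g, hg⟩ := toral_fin hp (r := r) hpr hF hW hE'
  refine ⟨(emb hp.inList L.1.subtype g)⁻¹, fun x hx => ?_⟩
  obtain ⟨x', rfl⟩ := hE2 L h2 hx
  rw [inv_inv, ← map_inv, ← map_mul, ← map_mul]
  exact emb_T hp _ ⟨_, hg x' hx, rfl⟩

/-! ### chains of roots -/

include hp in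
/-- **Chains of roots.** -/
theorem sx_nonempty (r : ℕ) [Fact r.Prime] [CharP k r] (hk : LocFin k) {p : ℕ} (hpp : p.Prime) (s : Fin (p + 1) → (Fin l → ℤ))
    (hs : ∀ i j, i < j → ∃ a, a < D.nroots ∧ vec D l a = s j - s i) {t : ↥(D.group k)} (ht : t ∈ TT D k)
    (htp : t ^ p = 1) : (Sx M.toCoxeterSystem hp.isCartan (ch hp) t).Nonempty := by
  have hA := chAddL (k := k) hp M.toCoxeterSystem hk r
  have C := coordsL (k := k) hp M.toCoxeterSystem hk r
  obtain ⟨φ, h0, hadd, hφ⟩ := hA t ht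
  have hroot : ∀ i j, i < j → IsRoot M.toCoxeterSystem hp.isCartan (s j - s i) := fun i j hij =>
    (isRoot_iff hp M.toCoxeterSystem _).2 (by
      obtain ⟨a, ha, e⟩ := hs i j hij
      exact ⟨a, ha, e⟩)
  have hinv : ∀ x, φ x * φ (-x) = 1 := fun x => by rw [← hadd, add_neg_cancel, h0]
  have hne : ∀ x, φ x ≠ 0 := fun x hx => by
    have := hinv x
    rw [hx, zero_mul] at this
    exact zero_ne_one this
  have hch : ∀ a, IsRoot M.toCoxeterSystem hp.isCartan a → φ a ^ p = 1 := by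
    intro a ha
    rw [← hφ a ha]
    have h0 : ch hp a (1 : ↥(D.group k)) = 1 := by
      have h1 := (C.coord a ha).chi_mul (one_mem (TT D k)) (one_mem _)
      rw [mul_one] at h1
      exact (mul_eq_left₀ ((C.coord a ha).chi_ne_zero (one_mem _))).1 h1.symm
    have h1 : ∀ m : ℕ, ch hp a (t ^ m) = ch hp a t ^ m := by
      intro m
      induction m with
      | zero => rw [pow_zero, pow_zero, h0]
      | succ m ih => rw [pow_succ, pow_succ, (C.coord a ha).chi_mul (pow_mem ht m) ht, ih]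
    rw [← h1, htp, h0]
  -- pigeonhole
  have hmem : ∀ j : Fin (p + 1), φ (s j - s 0) ∈ Polynomial.nthRootsFinset p (1 : k) := by
    intro j
    rw [Polynomial.mem_nthRootsFinset hpp.pos]
    rcases Fin.eq_zero_or_eq_succ j with rfl | ⟨j', rfl⟩
    · rw [sub_self, h0, one_pow]
    · exact hch _ (hroot _ _ (Fin.succ_pos j'))
  have hcard : (Polynomial.nthRootsFinset p (1 : k)).card < (Finset.univ : Finset (Fin (p + 1))).card := by
    rw [Finset.card_univ, Fintype.card_fin]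
    refine Nat.lt_succ_of_le ?_
    have h1 : (Polynomial.nthRootsFinset p (1 : k)).card ≤ Multiset.card (Polynomial.nthRoots p (1 : k)) := by
      classical
      rw [Polynomial.nthRootsFinset_def]
      exact Multiset.toFinset_card_le _
    exact h1.trans (Polynomial.card_nthRoots p 1)
  obtain ⟨i, -, j, -, hij, e⟩ := Finset.exists_ne_map_eq_of_card_lt_of_maps_to hcard (fun j _ => hmem j)
  have key : ∀ i j : Fin (p + 1), i < j → φ (s i - s 0) = φ (s j - s 0) →
      (Sx M.toCoxeterSystem hp.isCartan (ch hp) t).Nonempty := by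
    intro i j hij e
    refine ⟨s j - s i, hroot i j hij, ?_⟩
    rw [hφ _ (hroot i j hij)]
    have h1 : φ (s j - s 0) = φ (s j - s i) * φ (s i - s 0) := by
      rw [← hadd]
      congr 1
      abel
    rw [← e] at h1
    exact (mul_eq_right₀ (hne _)).1 h1.symm
  rcases lt_or_gt_of_ne hij with h | h
  · exact key i j h e
  · exact key j i h e.symm

/-! ### rank two -/

/-- `p` does not divide `|W|`, or there is a chain of `p` roots -/
def Cond (D : ChevalleyDatum) (l : ℕ) (M : CoxeterMatrix (Fin l)) (p : ℕ) : Prop :=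
  (¬ p ∣ Nat.card M.Group) ∨ ∃ s : Fin (p + 1) → (Fin l → ℤ), ∀ i j, i < j → ∃ a, a < D.nroots ∧ vec D l a = s j - s i

theorem not_isCyclic {G : Type*} [Group G] {p : ℕ} (hpp : p.Prime) {E : Subgroup G} (hE : ∀ x ∈ E, x ^ p = 1)
    (hcard : Nat.card E = p ^ 2) : ¬ IsCyclic E := by
  rintro ⟨⟨x, hx⟩, hg⟩
  have h1 : orderOf (⟨x, hx⟩ : E) = Nat.card E := orderOf_eq_card_of_forall_mem_zpowers hg
  have h2 : orderOf (⟨x, hx⟩ : E) ∣ p := orderOf_dvd_of_pow_eq_one (Subtype.ext (hE x hx))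
  rw [h1, hcard] at h2
  have h3 := Nat.le_of_dvd hpp.pos h2
  have h4 := hpp.one_lt
  nlinarith

variable {hp} {K₀ : Type v} [Group K₀]

/-- **`r`-elements in the centralisers of rank two subgroups.** -/
theorem Mod.rank_two (h : Mod r hp K₀) (hn : 0 < D.nroots) {p : ℕ} (hpp : p.Prime) (hpr : p ≠ r)
    (hc : Cond D l M p) {E : Subgroup K₀} [Finite E] (hE : ∀ x ∈ E, x ^ p = 1) (hcard : Nat.card E = p ^ 2) :
    ∃ x ∈ E, x ≠ 1 ∧ ∃ u : K₀, u ≠ 1 ∧ PElt r u ∧ x * u = u * x := by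
  have hk : LocFin (AlgebraicClosure (ZMod r)) := locFin_of_isAlgebraic r _
  obtain ⟨ι, hι, hr⟩ := h.exists_r
  rcases hc with hW | ⟨s, hs⟩
  · have hE' : IsPGroup p (E.map ι) := IsPGroup.map (fun x => ⟨1, Subtype.ext (by rw [pow_one]; exact hE x.1 x.2)⟩) ι
    have hfin : Finite ↥(E.map ι) := Finite.of_equiv _ (E.equivMapOfInjective ι hι).toEquiv
    obtain ⟨z, hz⟩ := toral hp hk hpp hpr hW hE'
    have hz' : ∀ x ∈ E, z * ι x * z⁻¹ ∈ TT D (AlgebraicClosure (ZMod r)) := fun x hx => hz _ ⟨x, hx, rfl⟩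
    have C := coordsL (k := AlgebraicClosure (ZMod r)) hp M.toCoxeterSystem hk r
    have ha : IsRoot M.toCoxeterSystem hp.isCartan (vec D l 0) := (isRoot_iff hp M.toCoxeterSystem _).2 ⟨0, hn, rfl⟩
    let f : E →* AlgebraicClosure (ZMod r) :=
      { toFun := fun e => ch hp (vec D l 0) (z * ι e * z⁻¹)
        map_one' := by
          have h1 := (C.coord _ ha).chi_mul (one_mem (TT D (AlgebraicClosure (ZMod r)))) (one_mem _)
          rw [mul_one] at h1
          have h2 : z * ι ((1 : E) : K₀) * z⁻¹ = 1 := by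
            rw [OneMemClass.coe_one, map_one, mul_one, mul_inv_cancel]
          rw [h2]
          exact (mul_eq_left₀ ((C.coord _ ha).chi_ne_zero (one_mem _))).1 h1.symm
        map_mul' := fun a b => by
          rw [← (C.coord _ ha).chi_mul (hz' a a.2) (hz' b b.2)]
          congr 1
          rw [Subgroup.coe_mul, map_mul]
          group }
    have hinj : ¬ Function.Injective f := by
      intro hf
      exact not_isCyclic hpp hE hcard (isCyclic_of_injective_ringHom f hf)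
    rw [injective_iff_map_eq_one] at hinj
    push Not at hinj
    obtain ⟨x, hx, hx1⟩ := hinj
    refine ⟨x, x.2, fun h1 => hx1 (Subtype.ext h1), hr x z (hz' x x.2) ⟨vec D l 0, ha, hx⟩⟩
  · obtain ⟨x, hx, hx1⟩ : ∃ x ∈ E, x ≠ 1 := by
      by_contra hcon
      push Not at hcon
      have h1 : E = ⊥ := by rw [Subgroup.eq_bot_iff_forall]; exact hcon
      rw [h1, Subgroup.card_bot] at hcard
      have := hpp.one_lt
      nlinarith
    have hy : (ι x) ^ p = 1 := by rw [← map_pow, hE x hx, map_one]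
    obtain ⟨z, hz⟩ := TorAll.exists_toral' hp r hpp hpr hy
    have hz' : z⁻¹ * ι x * z⁻¹⁻¹ ∈ TT D (AlgebraicClosure (ZMod r)) := by rwa [inv_inv]
    refine ⟨x, hx, hx1, hr x z⁻¹ hz' (sx_nonempty hp r hk hpp s hs hz' ?_)⟩
    rw [conj_pow, hy, mul_one, mul_inv_cancel]

/-! ### the conditions -/

section Cond

open Cfsg.Agent.PRankPar.CardW

/-- the simple root `i` -/
def sv (l : ℕ) (i : ℕ) : Fin l → ℤ := fun j => if j.val = i then 1 else 0

/-- a chain of roots -/
def chain (l m : ℕ) (v : Fin l → ℤ) (L : List ℕ) : Fin m → (Fin l → ℤ) := fun n =>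
  if n.val = 0 then 0 else (L.take (n.val - 1)).foldl (fun v i => v + sv l i) v

theorem chain_E6 : ∀ i j : Fin 6, i < j → ∃ a, a < chevE6.nroots ∧
    vec chevE6 6 a = chain 6 6 (sv 6 0) [2, 3, 4, 5] j - chain 6 6 (sv 6 0) [2, 3, 4, 5] i := by
  decide +kernel

theorem chain_E7_five : ∀ i j : Fin 6, i < j → ∃ a, a < chevE7.nroots ∧
    vec chevE7 7 a = chain 7 6 (sv 7 0) [2, 3, 4, 5] j - chain 7 6 (sv 7 0) [2, 3, 4, 5] i := by
  decide +kernel

theorem chain_E7_seven : ∀ i j : Fin 8, i < j → ∃ a, a < chevE7.nroots ∧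
    vec chevE7 7 a = chain 7 8 (![-2, -2, -3, -4, -3, -2, -1]) [0, 2, 3, 4, 5, 6] j -
      chain 7 8 (![-2, -2, -3, -4, -3, -2, -1]) [0, 2, 3, 4, 5, 6] i := by
  decide +kernel

theorem chain_E8_five : ∀ i j : Fin 6, i < j → ∃ a, a < chevE8.nroots ∧
    vec chevE8 8 a = chain 8 6 (sv 8 0) [2, 3, 4, 5] j - chain 8 6 (sv 8 0) [2, 3, 4, 5] i := by
  decide +kernel

theorem chain_E8_seven : ∀ i j : Fin 8, i < j → ∃ a, a < chevE8.nroots ∧
    vec chevE8 8 a = chain 8 8 (sv 8 0) [2, 3, 4, 5, 6, 7] j - chain 8 8 (sv 8 0) [2, 3, 4, 5, 6, 7] i := by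
  decide +kernel

/-- the primes dividing the orders of the Weyl groups -/
theorem cond_G2 {p : ℕ} (hpp : p.Prime) (h5 : 5 ≤ p) : Cond chevG2 2 CoxeterMatrix.G₂ p := by
  left
  rw [card_W_eq Cfsg.Agent.ChevalleyStructure.WeylData.certG2 CoxeterMatrix.G₂.toCoxeterSystem,
    show Cfsg.Agent.ChevalleyStructure.WeylData.certG2.steps = Cfsg.Agent.ChevalleyStructure.WeylData.stepsG2 from rfl,
    Cfsg.Agent.ChevalleyStructure.WeylData.size_G2]
  intro h
  rcases eq_five_or_seven hpp h5 (a := 2) (b := 1) (c := 0) (d := 0) (by norm_num; exact h) with rfl | rfl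
  · norm_num at h
  · norm_num at h

theorem cond_D4 {p : ℕ} (hpp : p.Prime) (h5 : 5 ≤ p) : Cond chevD4 4 coxeterD4 p := by
  left
  rw [card_W_eq Cfsg.Agent.ChevalleyStructure.WeylData.certD4 coxeterD4.toCoxeterSystem,
    show Cfsg.Agent.ChevalleyStructure.WeylData.certD4.steps = Cfsg.Agent.ChevalleyStructure.WeylData.stepsD4 from rfl,
    Cfsg.Agent.ChevalleyStructure.WeylData.size_D4]
  intro h
  rcases eq_five_or_seven hpp h5 (a := 6) (b := 1) (c := 0) (d := 0) (by norm_num; exact h) with rfl | rfl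
  · norm_num at h
  · norm_num at h

theorem cond_F4 {p : ℕ} (hpp : p.Prime) (h5 : 5 ≤ p) : Cond chevF4 4 CoxeterMatrix.F₄ p := by
  left
  rw [card_W_eq Cfsg.Agent.ChevalleyStructure.WeylData.certF4 CoxeterMatrix.F₄.toCoxeterSystem,
    show Cfsg.Agent.ChevalleyStructure.WeylData.certF4.steps = Cfsg.Agent.ChevalleyStructure.WeylData.stepsF4 from rfl,
    Cfsg.Agent.ChevalleyStructure.WeylData.size_F4]
  intro h
  rcases eq_five_or_seven hpp h5 (a := 7) (b := 2) (c := 0) (d := 0) (by norm_num; exact h) with rfl | rfl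
  · norm_num at h
  · norm_num at h

theorem cond_E6 {p : ℕ} (hpp : p.Prime) (h5 : 5 ≤ p) : Cond chevE6 6 CoxeterMatrix.E₆ p := by
  by_cases h5' : p = 5
  · subst h5'
    exact Or.inr ⟨_, chain_E6⟩
  left
  rw [card_W_eq Cfsg.Agent.ChevalleyStructure.WeylData.certE6 CoxeterMatrix.E₆.toCoxeterSystem,
    show Cfsg.Agent.ChevalleyStructure.WeylData.certE6.steps = Cfsg.Agent.ChevalleyStructure.WeylData.stepsE6 from rfl,
    Cfsg.Agent.ChevalleyStructure.WeylData.size_E6]
  intro h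
  rcases eq_five_or_seven hpp h5 (a := 7) (b := 4) (c := 1) (d := 0) (by norm_num; exact h) with rfl | rfl
  · exact h5' rfl
  · norm_num at h

theorem cond_E7 {p : ℕ} (hpp : p.Prime) (h5 : 5 ≤ p) : Cond chevE7 7 CoxeterMatrix.E₇ p := by
  by_cases h5' : p = 5
  · subst h5'
    exact Or.inr ⟨_, chain_E7_five⟩
  by_cases h7' : p = 7
  · subst h7'
    exact Or.inr ⟨_, chain_E7_seven⟩
  left
  rw [card_W_eq Cfsg.Agent.ChevalleyStructure.WeylData.certE7 CoxeterMatrix.E₇.toCoxeterSystem,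
    show Cfsg.Agent.ChevalleyStructure.WeylData.certE7.steps = Cfsg.Agent.ChevalleyStructure.WeylData.stepsE7 from rfl,
    Cfsg.Agent.ChevalleyStructure.WeylData.size_E7]
  intro h
  rcases eq_five_or_seven hpp h5 (a := 10) (b := 4) (c := 1) (d := 1) (by norm_num; exact h) with h1 | h1
  · exact h5' h1
  · exact h7' h1

theorem cond_E8 {p : ℕ} (hpp : p.Prime) (h5 : 5 ≤ p) : Cond chevE8 8 CoxeterMatrix.E₈ p := by
  by_cases h5' : p = 5
  · subst h5'
    exact Or.inr ⟨_, chain_E8_five⟩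
  by_cases h7' : p = 7
  · subst h7'
    exact Or.inr ⟨_, chain_E8_seven⟩
  left
  rw [card_W_eq Cfsg.Agent.ChevalleyStructure.WeylData.certE8 CoxeterMatrix.E₈.toCoxeterSystem,
    show Cfsg.Agent.ChevalleyStructure.WeylData.certE8.steps = Cfsg.Agent.ChevalleyStructure.WeylData.stepsE8 from rfl,
    Cfsg.Agent.ChevalleyStructure.WeylData.size_E8]
  intro h
  rcases eq_five_or_seven hpp h5 (a := 14) (b := 5) (c := 2) (d := 1) (by norm_num; exact h) with h1 | h1
  · exact h5' h1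
  · exact h7' h1

end Cond

end Cfsg.Agent.H666.Mods
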