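import Cfsg.Agent.H666.RootUnityThree

/-!
# Faithful characters with root-of-unity values: a normal `p`-subgroup that is not Sylow has order 4
-/

set_option autoImplicit false
set_option linter.style.haveILetI false
set_option linter.unusedSectionVars false

open Cfsg

namespace Cfsg.Agent.H666.RootUnity

open Cfsg.Agent.Characters.Core Cfsg.Agent.Characters.Clifford Cfsg.Agent.CharactersDeep.CliffordSum
open Cfsg.Agent.Characters.Linear
open scoped ComplexConjugate

variable {G : Type*} [Group G] {p : ℕ} {P : Subgroup G} {χ : G → ℂ}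

theorem conj_hom [Finite G] (f : P →* ℂˣ) (x : P) : conj (f x : ℂ) = ((f x)⁻¹ : ℂˣ) := by
  have h := norm_hom_apply f x
  rw [Units.val_inv_eq_inv_val]
  have h0 : (f x : ℂ) ≠ 0 := Units.ne_zero _
  rw [eq_comm, inv_eq_iff_eq_inv, eq_comm, inv_eq_of_mul_eq_one_left]
  rw [Complex.mul_conj, Complex.normSq_eq_norm_sq, h]; norm_num

/-- A linear constituent of multiplicity one which is fixed by `g` gives a Fourier coefficient of
absolute value one. -/
theorem norm_inner_eq_one [Finite G] [Fintype P] {V : Type*} [AddCommGroup V] [Module ℂ V]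
    [FiniteDimensional ℂ V] (ρ : Representation ℂ G V) (f : P →* ℂˣ)
    (h1 : classInner (fun x : P => ρ.character x) (fun x => (f x : ℂ)) = 1) (g : G)
    (σ : P ≃ P) (hσ : ∀ x : P, (σ x : G) = g * x * g⁻¹ ∧ f (σ x) = f x) :
    ‖classInner (fun x : P => ρ.character (g * x)) (fun x => (f x : ℂ))‖ = 1 := by
  classical
  set k : ℂ := (Nat.card P : ℂ)⁻¹ with hk
  have hcard : (Nat.card P : ℂ) ≠ 0 := by exact_mod_cast Nat.card_pos.ne'
  let E : Module.End ℂ V := k • ∑ x : P, conj (f x : ℂ) • ρ (x : G)
  have hE : E = k • ∑ x : P, conj (f x : ℂ) • ρ (x : G) := rfl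
  have hmulE : ∀ y : P, ρ (y : G) * E = (f y : ℂ) • E := by
    intro y
    rw [hE, mul_smul_comm, Finset.mul_sum, smul_comm]
    congr 1
    rw [Finset.smul_sum, ← Equiv.sum_comp (Equiv.mulLeft y)
      (fun x : P => (f y : ℂ) • conj (f x : ℂ) • ρ (x : G))]
    refine Finset.sum_congr rfl fun x _ => ?_
    rw [mul_smul_comm, ← map_mul, smul_smul, Equiv.coe_mulLeft, Subgroup.coe_mul]
    congr 1
    rw [conj_hom, conj_hom, map_mul, mul_inv_rev, ← Units.val_mul]
    congr 1
    rw [mul_comm (f x)⁻¹, mul_inv_cancel_left]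
  have hidem : E * E = E := by
    conv_lhs => rw [hE]
    rw [smul_mul_assoc, Finset.sum_mul]
    have h2 : ∀ x : P, (conj (f x : ℂ) • ρ (x : G)) * E = E := by
      intro x
      rw [smul_mul_assoc, hmulE, smul_smul, conj_hom, ← Units.val_mul, inv_mul_cancel]
      simp
    rw [Finset.sum_congr rfl fun x _ => h2 x, Finset.sum_const, Finset.card_univ,
      ← Nat.card_eq_fintype_card, ← Nat.cast_smul_eq_nsmul ℂ, smul_smul, hk, inv_mul_cancel₀ hcard,
      one_smul]
  have hcommE : ρ g * E = E * ρ g := by
    rw [hE, mul_smul_comm, smul_mul_assoc, Finset.mul_sum, Finset.sum_mul]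
    congr 1
    rw [← Equiv.sum_comp σ (fun x : P => (conj (f x : ℂ) • ρ (x : G)) * ρ g)]
    refine Finset.sum_congr rfl fun x _ => ?_
    obtain ⟨h2, h3⟩ := hσ x
    rw [mul_smul_comm, smul_mul_assoc, ← map_mul, ← map_mul, h2, h3, inv_mul_cancel_right]
  have htrE : LinearMap.trace ℂ V E = 1 := by
    rw [← h1, hE, map_smul, map_sum]
    unfold classInner
    rw [smul_eq_mul]
    congr 1
    refine Finset.sum_congr rfl fun x _ => ?_
    rw [map_smul, smul_eq_mul, mul_comm]; rfl
  have hproj : LinearMap.IsProj (LinearMap.range E) E :=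
    (LinearMap.isProj_range_iff_isIdempotentElem E).mpr hidem
  have hrank : Module.finrank ℂ (LinearMap.range E) = 1 := by
    have h2 := hproj.trace
    rw [htrE] at h2
    exact_mod_cast h2.symm
  obtain ⟨⟨v, hvE⟩, hv0, hv⟩ := finrank_eq_one_iff'.mp hrank
  have hEv : E v = v := hproj.map_id v hvE
  have hv0' : v ≠ 0 := fun hh => hv0 (Subtype.ext hh)
  have hgv : ρ g v ∈ LinearMap.range E := by
    refine ⟨ρ g v, ?_⟩
    have h2 : (E * ρ g) v = (ρ g * E) v := by rw [hcommE]
    rw [Module.End.mul_apply, Module.End.mul_apply, hEv] at h2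
    exact h2
  obtain ⟨c, hc⟩ := hv ⟨ρ g v, hgv⟩
  have hc' : ρ g v = c • v := (congrArg Subtype.val hc).symm
  have hgE : ρ g * E = c • E := by
    refine LinearMap.ext fun w => ?_
    obtain ⟨a, ha⟩ := hv ⟨E w, LinearMap.mem_range_self E w⟩
    have ha' : E w = a • v := (congrArg Subtype.val ha).symm
    show ρ g (E w) = c • E w
    rw [ha', map_smul, hc', smul_comm]
  have hcn : c ^ orderOf g = 1 := by
    have h2 : ∀ m : ℕ, (ρ g ^ m) v = c ^ m • v := by
      intro m
      induction m with
      | zero => simp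
      | succ m ih => rw [pow_succ', Module.End.mul_apply, ih, map_smul, hc', smul_smul, pow_succ]
    have h3 := h2 (orderOf g)
    rw [← map_pow, pow_orderOf_eq_one, map_one, Module.End.one_apply] at h3
    have h4 : (c ^ orderOf g - 1) • v = 0 := by rw [sub_smul, ← h3, one_smul, sub_self]
    exact sub_eq_zero.mp ((smul_eq_zero.mp h4).resolve_right hv0')
  have hfinal : classInner (fun x : P => ρ.character (g * x)) (fun x => (f x : ℂ)) = c := by
    have h2 : LinearMap.trace ℂ V (ρ g * E) = c := by
      rw [hgE, map_smul, htrE, smul_eq_mul, mul_one]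
    rw [← h2, hE, mul_smul_comm, map_smul, Finset.mul_sum, map_sum]
    unfold classInner
    rw [smul_eq_mul]
    congr 1
    refine Finset.sum_congr rfl fun x _ => ?_
    rw [mul_smul_comm, map_smul, smul_eq_mul, ← map_mul, mul_comm]; rfl
  rw [hfinal]
  exact Complex.norm_eq_one_of_pow_eq_one hcn (orderOf_pos g).ne'

/-- Equality case. -/
theorem eq_mul_of_norm [Finite G] [Fintype P] (f : P →* ℂˣ) (F : P → ℂ) (hF : ∀ x, ‖F x‖ = 1)
    (h1 : ‖classInner F (fun x => (f x : ℂ))‖ = 1) (x : P) :
    F x = classInner F (fun x => (f x : ℂ)) * f x := by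
  classical
  set c := classInner F (fun x => (f x : ℂ)) with hc
  set l : P → ℂ := fun x => (f x : ℂ) with hl
  have hcc : c * conj c = 1 := by
    rw [Complex.mul_conj, Complex.normSq_eq_norm_sq, h1]; norm_num
  have hFF : classInner F F = 1 := by
    unfold classInner
    have : ∀ x, F x * conj (F x) = 1 := fun x => by
      rw [Complex.mul_conj, Complex.normSq_eq_norm_sq, hF x]; norm_num
    rw [Finset.sum_congr rfl fun x _ => this x, Finset.sum_const, Finset.card_univ,
      ← Nat.card_eq_fintype_card, nsmul_eq_mul, mul_one, inv_mul_cancel₀]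
    exact_mod_cast Nat.card_pos.ne'
  have hll : classInner l l = 1 := classInner_irr_self (isIrrCharacter_hom f)
  have hlF : classInner l F = conj c := by
    rw [hc, classInner_conj_symm]
  have hz : classInner (F - c • l) (F - c • l) = 0 := by
    rw [classInner_sub_left, classInner_sub_right, classInner_sub_right, classInner_smul_left,
      classInner_smul_right, classInner_smul_left, classInner_smul_right, hFF, hll, hlF, ← hc]
    linear_combination (-1 : ℂ) * hcc
  have h2 := congrFun (classInner_self_eq_zero hz) x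
  simp only [Pi.sub_apply, Pi.smul_apply, Pi.zero_apply, smul_eq_mul] at h2
  exact sub_eq_zero.mp h2

end Cfsg.Agent.H666.RootUnity
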