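import Cfsg.Agent.H666.RootUnityTwo
import Cfsg.Agent.Lib.Cores

/-!
# Faithful characters with root-of-unity values: centralizers, and the case `P` not Sylow
-/

set_option autoImplicit false
set_option linter.style.haveILetI false
set_option linter.unusedSectionVars false

open Cfsg

namespace Cfsg.Agent.H666.RootUnity

open Cfsg.Agent.Characters.Core Cfsg.Agent.Characters.Clifford Cfsg.Agent.CharactersDeep.CliffordSum
open Cfsg.Agent.Characters.Linear
open scoped ComplexConjugate

variable {G : Type*} [Group G] {p : ℕ} {P : Subgroup G} {χ : G → ℂ}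

theorem RU.card_eq [Finite G] [Fact p.Prime] (h : RU p P χ) {d : ℕ} (hd : χ 1 = d) :
    Nat.card P = d + 1 := by
  obtain ⟨d', φ, hd1, hd', hPd, -⟩ := h.orbit
  have : d = d' := by
    have : (d : ℂ) = d' := by rw [← hd, hd']
    exact_mod_cast this
  rw [this, hPd]

/-- A `p'`-element centralizing `P` is central. -/
theorem RU.central_of_centralizer [Finite G] [Fact p.Prime] (h : RU p P χ) {a : G}
    (ha : ∀ x ∈ P, a * x = x * a) (hpa : ¬ p ∣ orderOf a) : a ∈ Subgroup.center G := by
  classical
  haveI := Fintype.ofFinite G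
  haveI := Fintype.ofFinite P
  haveI := Fintype.ofFinite (Subgroup.zpowers a)
  have hprime : p.Prime := Fact.out
  obtain ⟨d, hd1, hd⟩ := h.exists_degree
  have hPd := h.card_eq hd
  have hcomm : ∀ (x : P) (y : Subgroup.zpowers a), Commute (x : G) (y : G) := by
    rintro ⟨x, hx⟩ ⟨y, hy⟩
    obtain ⟨k, rfl⟩ := Subgroup.mem_zpowers_iff.mp hy
    have : Commute a x := ha x hx
    exact (this.zpow_left k).symm
  let ι : P × Subgroup.zpowers a →* G :=
    MonoidHom.noncommCoprod P.subtype (Subgroup.zpowers a).subtype hcomm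
  have hι : ∀ z, ι z = (z.1 : G) * (z.2 : G) := fun z => rfl
  have hAcomm : ∀ u v : P × Subgroup.zpowers a, u * v = v * u := by
    intro u v
    refine Prod.ext (h.comm _ _) ?_
    obtain ⟨i, hi⟩ := Subgroup.mem_zpowers_iff.mp u.2.2
    obtain ⟨j, hj⟩ := Subgroup.mem_zpowers_iff.mp v.2.2
    apply Subtype.ext
    show (u.2 : G) * v.2 = v.2 * u.2
    rw [← hi, ← hj]
    exact ((Commute.refl a).zpow_zpow i j).eq
  have hψ : IsCharacter (P × Subgroup.zpowers a) (fun z => χ (ι z)) :=
    isCharacter_comp ι (isIrr_isCharacter h.irr)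
  obtain ⟨m, hm, hdm⟩ := le_inner_of_comm hAcomm hψ (d := d) (by
    show χ (ι 1) = d
    rw [map_one, hd])
  set r := Nat.card (Subgroup.zpowers a) with hr
  have hrpos : 0 < r := Nat.card_pos
  rw [classInner_self_eq_ofReal] at hm
  have hm' : (Nat.card (P × Subgroup.zpowers a) : ℝ)⁻¹ *
      ∑ z : P × Subgroup.zpowers a, Complex.normSq (χ (ι z)) = m := by exact_mod_cast hm
  have hcardA : (Nat.card (P × Subgroup.zpowers a) : ℝ) = (d + 1) * r := by
    rw [Nat.card_prod, hPd]; push_cast; ring
  have hcardpos : (0 : ℝ) < (d + 1) * r := by positivity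
  rw [hcardA, inv_mul_eq_iff_eq_mul₀ hcardpos.ne'] at hm'
  -- the p-singular elements
  have hsing : ∀ (x : P) (y : Subgroup.zpowers a), x ≠ 1 → Complex.normSq (χ ((x : G) * y)) = 1 := by
    intro x y hx
    have hx1 : (x : G) ≠ 1 := fun hh => hx (Subtype.ext hh)
    have h1 := h.dvd_orderOf x.2 hx1
    have hcop : (orderOf (x : G)).Coprime (orderOf (y : G)) := by
      obtain ⟨k, hk⟩ := h.pgrp x
      have hk' : (x : G) ^ p ^ k = 1 := by simpa using congrArg Subtype.val hk
      have h2 : orderOf (x : G) ∣ p ^ k := orderOf_dvd_of_pow_eq_one hk'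
      refine Nat.Coprime.coprime_dvd_left h2 (Nat.Coprime.pow_left k ?_)
      rw [hprime.coprime_iff_not_dvd]
      intro h3
      apply hpa
      refine h3.trans ?_
      exact orderOf_dvd_of_mem_zpowers y.2
    have h2 : p ∣ orderOf ((x : G) * y) := by
      rw [(hcomm x y).orderOf_mul_eq_mul_orderOf_of_coprime hcop]
      exact dvd_mul_of_dvd_left h1 _
    rw [Complex.normSq_eq_norm_sq, h.norm_eq_one h2]; norm_num
  have hsum : ∑ z : P × Subgroup.zpowers a, Complex.normSq (χ (ι z)) =
      ∑ y : Subgroup.zpowers a, Complex.normSq (χ (y : G)) + r * d := by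
    rw [Fintype.sum_prod_type, Finset.sum_comm]
    have h1 : ∀ y : Subgroup.zpowers a, ∑ x : P, Complex.normSq (χ (ι (x, y))) =
        Complex.normSq (χ (y : G)) + d := by
      intro y
      rw [← Finset.add_sum_erase _ _ (Finset.mem_univ (1 : P))]
      congr 1
      · rw [hι]; simp
      · have h5 : ∀ x ∈ Finset.univ.erase (1 : P), Complex.normSq (χ (ι (x, y))) = 1 :=
          fun x hx => hsing x y (Finset.mem_erase.mp hx).1
        rw [Finset.sum_congr rfl h5]
        rw [Finset.sum_const, Finset.card_erase_of_mem (Finset.mem_univ _), Finset.card_univ,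
          ← Nat.card_eq_fintype_card, hPd]
        simp
    rw [Finset.sum_congr rfl fun y _ => h1 y, Finset.sum_add_distrib, Finset.sum_const,
      Finset.card_univ, ← Nat.card_eq_fintype_card, nsmul_eq_mul]
  obtain ⟨n, ρ, hρ, hρχ⟩ := h.irr
  have hnd : n = d := by
    have h1 : χ 1 = n := by rw [← hρχ, Representation.char_one]; simp
    have : (n : ℂ) = d := by rw [← h1, hd]
    exact_mod_cast this
  have hle : ∀ g : G, Complex.normSq (χ g) ≤ (d : ℝ) ^ 2 := by
    intro g
    rw [Complex.normSq_eq_norm_sq, ← hρχ]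
    have h1 := Cfsg.Agent.Characters.Values.norm_character_le ρ g
    have h2 : (Module.finrank ℂ (Fin n → ℂ) : ℝ) = d := by simp [hnd]
    rw [h2] at h1
    exact pow_le_pow_left₀ (norm_nonneg _) h1 2
  have hlow : (r : ℝ) * (d : ℝ) ^ 2 ≤ ∑ y : Subgroup.zpowers a, Complex.normSq (χ (y : G)) := by
    have h1 : ∑ y : Subgroup.zpowers a, Complex.normSq (χ (y : G)) = (d + 1) * r * m - r * d := by
      rw [← hm', hsum]; ring
    rw [h1]
    have h2 : (d : ℝ) ≤ m := by exact_mod_cast hdm
    nlinarith [mul_le_mul_of_nonneg_left h2 hcardpos.le]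
  have hnorm : Complex.normSq (χ a) = (d : ℝ) ^ 2 := by
    by_contra hne
    have hlt : Complex.normSq (χ a) < (d : ℝ) ^ 2 := lt_of_le_of_ne (hle a) hne
    have h1 : ∑ y : Subgroup.zpowers a, Complex.normSq (χ (y : G)) <
        ∑ y : Subgroup.zpowers a, (d : ℝ) ^ 2 :=
      Finset.sum_lt_sum (fun y _ => hle y) ⟨⟨a, Subgroup.mem_zpowers a⟩, Finset.mem_univ _, hlt⟩
    rw [Finset.sum_const, Finset.card_univ, ← Nat.card_eq_fintype_card, nsmul_eq_mul] at h1
    exact absurd hlow (not_le.mpr h1)
  have hnorm' : ‖ρ.character a‖ = (Module.finrank ℂ (Fin n → ℂ) : ℝ) := by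
    rw [hρχ]
    rw [Complex.normSq_eq_norm_sq] at hnorm
    have h1 := (pow_left_inj₀ (norm_nonneg (χ a)) (Nat.cast_nonneg d) two_ne_zero).mp hnorm
    rw [h1]; simp [hnd]
  obtain ⟨w, hw⟩ := (Cfsg.Agent.Characters.Values.norm_character_eq_iff ρ a).mp hnorm'
  rw [Subgroup.mem_center_iff]
  intro g
  have h1 : ρ (g * a) = ρ (a * g) := by
    rw [map_mul, map_mul, hw]
    ext v
    simp
  have h2 : ρ (g * a * (a * g)⁻¹) = 1 := by
    rw [map_mul, h1, ← map_mul, mul_inv_cancel, map_one]
  have h3 := h.faith (g * a * (a * g)⁻¹) (by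
    rw [← hρχ]
    unfold Representation.character
    rw [h2, map_one ρ])
  exact mul_inv_eq_one.mp h3

/-- `C_G(O_p(G)) = O_p(G) Z(G)`. -/
theorem RU.centralizer_eq [Finite G] [Fact p.Prime] (h : RU p (pCore p G) χ) :
    Subgroup.centralizer ((pCore p G : Subgroup G) : Set G) = pCore p G ⊔ Subgroup.center G := by
  classical
  have hprime : p.Prime := Fact.out
  haveI := h.normal
  set P := pCore p G with hPdef
  set C := Subgroup.centralizer ((P : Subgroup G) : Set G) with hC
  haveI hCn : C.Normal := inferInstance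
  have hPC : P ≤ C := by
    intro x hx
    rw [hC, Subgroup.mem_centralizer_iff]
    intro y hy
    exact congrArg Subtype.val (h.comm ⟨y, hy⟩ ⟨x, hx⟩)
  have hZC : Subgroup.center G ≤ C := Subgroup.center_le_centralizer _
  apply le_antisymm _ (sup_le hPC hZC)
  let Z : Subgroup C := (Subgroup.center G).subgroupOf C
  haveI : Z.Normal := inferInstance
  -- `C / Z` is a `p`-group
  have hquot : IsPGroup p (C ⧸ Z) := by
    intro q
    induction q using QuotientGroup.induction_on with
    | H c =>
      refine ⟨(orderOf (c : G)).factorization p, ?_⟩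
      rw [← QuotientGroup.mk_pow, QuotientGroup.eq_one_iff]
      show ((c ^ p ^ ((orderOf (c : G)).factorization p) : C) : G) ∈ Subgroup.center G
      apply h.central_of_centralizer
      · intro x hx
        have := (c ^ p ^ ((orderOf (c : G)).factorization p)).2
        exact (Subgroup.mem_centralizer_iff.mp this x hx).symm
      · have h0 : orderOf (c : G) ≠ 0 := (orderOf_pos _).ne'
        rw [Subgroup.coe_pow, orderOf_pow' _ (pow_ne_zero _ hprime.ne_zero),
          Nat.gcd_eq_right (Nat.ordProj_dvd _ _)]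
        exact Nat.not_dvd_ordCompl hprime h0
  obtain ⟨k, hk⟩ := hquot.exists_card_eq
  let S : Sylow p C := default
  have htop : (S : Subgroup C) ⊔ Z = ⊤ := by
    have h1 : ((S : Subgroup C) ⊔ Z).index ∣ Z.index := Subgroup.index_dvd_of_le le_sup_right
    have h2 : ((S : Subgroup C) ⊔ Z).index ∣ (S : Subgroup C).index :=
      Subgroup.index_dvd_of_le le_sup_left
    have h3 : Z.index = p ^ k := hk
    rw [h3] at h1
    obtain ⟨j, -, hj⟩ := (Nat.dvd_prime_pow hprime).mp h1
    rw [← Subgroup.index_eq_one, hj]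
    by_contra hne
    have hj0 : j ≠ 0 := by rintro rfl; exact hne (pow_zero p)
    have h4 : p ∣ (S : Subgroup C).index := by
      refine dvd_trans ?_ h2
      rw [hj]; exact dvd_pow_self p hj0
    exact S.not_dvd_index h4
  have hZcent : ∀ z ∈ Z, ∀ c : C, z * c = c * z := by
    intro z hz c
    apply Subtype.ext
    exact (Subgroup.mem_center_iff.mp (show (z : G) ∈ Subgroup.center G from hz) c).symm
  haveI hSn : (S : Subgroup C).Normal := by
    rw [← Subgroup.normalizer_eq_top_iff, eq_top_iff, ← htop]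
    refine sup_le Subgroup.le_normalizer ?_
    intro z hz
    rw [Subgroup.mem_normalizer_iff]
    intro s
    rw [hZcent z hz s, mul_inv_cancel_right]
  have hSP : (S : Subgroup C).map C.subtype ≤ P := by
    have h1 : (S : Subgroup C) ≤ pCore p C :=
      Cfsg.Agent.Lib.Cores.le_pCore hSn S.isPGroup'
    have h2 := Subgroup.map_mono (f := C.subtype) h1
    rw [Cfsg.Agent.Lib.Cores.map_subtype_pCore p hCn] at h2
    exact h2.trans inf_le_right
  intro c hc
  have h1 : (⟨c, hc⟩ : C) ∈ (S : Subgroup C) ⊔ Z := by rw [htop]; trivial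
  obtain ⟨s, hs, z, hz, hsz⟩ := Subgroup.mem_sup_of_normal_left.mp h1
  have h2 : c = (s : G) * (z : G) := (congrArg Subtype.val hsz).symm
  rw [h2]
  exact Subgroup.mul_mem_sup (hSP ⟨s, hs, rfl⟩) hz

end Cfsg.Agent.H666.RootUnity
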